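import Cfsg.Agent.H153.ExcRows
import Cfsg.Agent.H605.Exc.InnerExc

/-!
# The rows `ExcAt` of the exceptional groups (tasks 311, 312)
-/

set_option autoImplicit false

namespace Cfsg.Agent.H153.Exc

open Cfsg Cfsg.Agent.H459.Iface

/-- **Task 311.** -/
theorem excAt_chev {K : Type*} [Group K] [Finite K] [IsSimpleGroup K] {r p : ℕ} [Fact r.Prime] [Fact p.Prime]
    (h : Cfsg.IsExceptionalChevChar r K) (hp : 5 ≤ p) (hpr : p ≠ r) : Cfsg.Agent.H459.Iface.ExcAt r p K := by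
  intro x hx hRC
  rcases out_chev h hp x hx with h1 | ⟨y, hy⟩
  · exact Or.inl h1
  · rcases H605.Exc.InnerExc.inner_excAt' (Or.inl h) hp hpr hy hx hRC with h1 | h1
    · exact Or.inl h1
    · exact Or.inr (Or.inl h1)

/-- **Task 312.** -/
theorem excAt_twisted {K : Type*} [Group K] [Finite K] [IsSimpleGroup K] {r p : ℕ} [Fact r.Prime] [Fact p.Prime]
    (h : Cfsg.IsTwistedE6D4Char r K) (hp : 5 ≤ p) (hpr : p ≠ r) : Cfsg.Agent.H459.Iface.ExcAt r p K := by
  intro x hx hRC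
  rcases out_twisted h hp x hx with h1 | ⟨y, hy⟩
  · exact Or.inl h1
  · rcases H605.Exc.InnerExc.inner_excAt' (Or.inr h) hp hpr hy hx hRC with h1 | h1
    · exact Or.inl h1
    · exact Or.inr (Or.inl h1)

end Cfsg.Agent.H153.Exc
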