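import Cfsg.Agent.KFacts.Ru.CentEng
import Cfsg.Agent.H771.KTools
import Cfsg.Agent.H393.Iso.Ru
import Cfsg.Agent.H547.SelfCent.Ru
import Cfsg.Agent.RuLat.Main
import Cfsg.Agent.NotCT.Orders
import Cfsg.Agent.H504.ZerosIso

/-!
# S4895: the row `Ru` (helper153)

Classes are separated by the orders and the numbers of fixed points on the 4060 points.
-/

set_option autoImplicit false
set_option maxRecDepth 100000
set_option exponentiation.threshold 5000

namespace Cfsg.Agent.H153.Zeros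

open Subgroup Cfsg Cfsg.Agent.H92.KTools Cfsg.Agent.H771 Cfsg.Agent.H771.KTools Cfsg.Agent.H504.Zeros

namespace RuCls

open Cfsg.Agent.Lib Cfsg.Agent.Lib.BitNet Cfsg.Agent.SporadicB Cfsg.Agent.SporadicB.RuData Cfsg.Agent.SporadicB.RuOrder
open Cfsg.Agent.RuD.Data Cfsg.Agent.SporRec.TCUpperCert Cfsg.Agent.SporRec.R3.Kernel Cfsg.Agent.RuD.Letters
open Cfsg.Agent.KFacts.Ru.CentEng

/-- number of fixed points -/
noncomputable def fxn (g : RuOrder.H) : ℕ := Nat.card {i : Fin 4060 // (g : Equiv.Perm (Fin 4060)) i = i}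

theorem fxn_conj {x y : RuOrder.H} (h : IsConj x y) : fxn x = fxn y := by
  obtain ⟨c, rfl⟩ := isConj_iff.1 h
  have hc : ∀ i : Fin 4060, ((c * x * c⁻¹ : RuOrder.H) : Equiv.Perm (Fin 4060)) ((c : Equiv.Perm (Fin 4060)) i) =
      (c : Equiv.Perm (Fin 4060)) ((x : Equiv.Perm (Fin 4060)) i) := by
    intro i
    change (c : Equiv.Perm (Fin 4060)) ((x : Equiv.Perm (Fin 4060)) ((c : Equiv.Perm (Fin 4060))⁻¹
      ((c : Equiv.Perm (Fin 4060)) i))) = _
    exact congrArg (fun j => (c : Equiv.Perm (Fin 4060)) ((x : Equiv.Perm (Fin 4060)) j))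
      (Equiv.symm_apply_apply (c : Equiv.Perm (Fin 4060)) i)
  refine Nat.card_congr (Equiv.subtypeEquiv (c : Equiv.Perm (Fin 4060)) fun i => ?_)
  rw [hc]
  exact (c : Equiv.Perm (Fin 4060)).injective.eq_iff.symm

theorem fxn_word (w : List ℕ) : fxn (wprod ml w) = popc 12 (fixMask w) := by
  have h1 : fxn (wprod ml w) = (pts 4060 (fixMask w)).card := by
    rw [fxn, Nat.card_eq_fintype_card, Fintype.card_subtype]
    congr 1
    ext i
    rw [mem_pts, testBit_fixMask, Finset.mem_filter]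
    exact ⟨fun h => h.2, fun h => ⟨Finset.mem_univ _, h⟩⟩
  rw [h1]
  apply le_antisymm
  · exact card_pts_le (by norm_num) _
  · apply card_pts_eq
    intro i hi
    by_contra hge
    rw [fixMask, BitNetSimple.force_eq] at hi
    change ((2 ^ 4060 - 1) ^^^ ((2 ^ 4060 - 1) &&& diffM w _)).testBit i = true at hi
    rw [Nat.testBit_xor, Nat.testBit_and, Nat.testBit_two_pow_sub_one, decide_eq_false hge] at hi
    simp at hi

/-- repeated words -/
def rpw (w : List ℕ) : ℕ → List ℕ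
  | 0 => []
  | n + 1 => w ++ rpw w n

theorem wprod_rpw (w : List ℕ) (n : ℕ) : wprod ml (rpw w n) = wprod ml w ^ n := by
  induction n with
  | zero => rfl
  | succ n ih => rw [rpw, wprod_append, ih, pow_succ']

/-- the check of an item (word, order, number of fixed points, primes) -/
noncomputable def chkI (d : List ℕ × ℕ × ℕ × List ℕ) : Bool :=
  (Nat.blt 0 d.2.1 && (chkRel [rpw d.1 d.2.1] && d.2.2.2.all fun p => [0, 29, 580, 577].any fun b =>
    !Nat.beq (evalK (rpw d.1 (d.2.1 / p)) b) b)) && Nat.beq (popc 12 (fixMask d.1)) d.2.2.1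

theorem hasOrd_of_chk {d : List ℕ × ℕ × ℕ × List ℕ} (hps : d.2.1.primeFactors = d.2.2.2.toFinset)
    (h : chkI d = true) : orderOf (wprod ml d.1) = d.2.1 ∧ fxn (wprod ml d.1) = d.2.2.1 := by
  unfold chkI at h
  rw [Bool.and_eq_true, Bool.and_eq_true, Bool.and_eq_true, List.all_eq_true, Nat.blt_eq] at h
  obtain ⟨⟨h0, h1, h2⟩, h3⟩ := h
  refine ⟨?_, ?_⟩
  · refine orderOf_eq_of_pow_and_pow_div_prime h0 ?_ fun p hp hd hc => ?_
    · rw [← wprod_rpw]
      exact rel_of_chk h1 _ (List.mem_singleton_self _)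
    · have hp' : p ∈ d.2.2.2 := by
        rw [← List.mem_toFinset, ← hps]
        exact Nat.mem_primeFactors.2 ⟨hp, hd, h0.ne'⟩
      obtain ⟨b, hb, hbb⟩ := List.any_eq_true.1 (h2 p hp')
      rw [Bool.not_eq_true'] at hbb
      have hlt : b < 4060 := by
        simp only [List.mem_cons, List.not_mem_nil, or_false] at hb
        rcases hb with rfl | rfl | rfl | rfl <;> norm_num
      have h4 := evalK_eq (rpw d.1 (d.2.1 / p)) ⟨b, hlt⟩
      rw [wprod_rpw, hc] at h4
      have h5 : b = evalK (rpw d.1 (d.2.1 / p)) b := h4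
      rw [← h5, Nat.beq_refl] at hbb
      exact absurd hbb (by decide)
  · rw [fxn_word]
    exact Nat.eq_of_beq_eq_true h3

/-- the data -/
def data : List (List ℕ × ℕ × ℕ × List ℕ) := [
  ([], 1, 4060, []),
  ([0], 2, 0, [2]),
  ([2], 2, 92, [2]),
  ([8], 3, 10, [3]),
  ([5, 1], 4, 8, [2]),
  ([1], 4, 20, [2]),
  ([3, 5, 6, 4, 2, 1, 7, 5], 4, 32, [2]),
  ([2, 1, 7], 5, 0, [5]),
  ([0, 8, 5], 5, 10, [5]),
  ([2, 4], 6, 2, [2, 3]),
  ([7], 7, 0, [7]),
  ([7, 5], 8, 2, [2]),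
  ([7, 6, 2, 8, 5, 6], 8, 4, [2]),
  ([4, 7, 6, 3, 5, 0], 8, 6, [2]),
  ([6, 3, 2, 5], 10, 0, [2, 5]),
  ([5, 0, 8, 2], 10, 2, [2, 5]),
  ([8, 1], 12, 2, [2, 3]),
  ([1, 3, 2], 13, 4, [13]),
  ([0, 3], 14, 0, [2, 7]),
  ([6, 2, 8, 6], 15, 0, [3, 5]),
  ([0, 3, 5, 6], 16, 2, [2]),
  ([5, 3, 3], 20, 0, [2, 5]),
  ([0, 8, 3, 5, 2], 20, 2, [2, 5]),
  ([7, 0, 6, 7, 5], 24, 0, [2, 3]),
  ([1, 5, 7], 26, 0, [2, 13]),
  ([5, 2, 7, 0, 7], 29, 0, [29])]

theorem data_primes : ∀ d ∈ data, d.2.1.primeFactors = d.2.2.2.toFinset := by decide +kernel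

theorem data_chk : data.all chkI = true := by decide +kernel

theorem data_nodup : (data.map fun d => (d.2.1, d.2.2.1)).Nodup := by decide +kernel

theorem classes : 26 ≤ Nat.card (ConjClasses RuOrder.H) := by
  have hfin : Finite RuOrder.H := Nat.finite_of_card_ne_zero (by rw [card_H]; norm_num)
  refine le_trans (by decide) (length_le (data.map fun d => wprod ml d.1) ?_)
  rw [List.pairwise_map]
  have h1 := data_nodup
  rw [List.Nodup, List.pairwise_map] at h1
  have h2 := List.all_eq_true.1 data_chk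
  refine List.Pairwise.imp_of_mem ?_ h1
  intro a b ha hb hab hc
  apply hab
  obtain ⟨e1, e2⟩ := hasOrd_of_chk (data_primes a ha) (h2 a ha)
  obtain ⟨f1, f2⟩ := hasOrd_of_chk (data_primes b hb) (h2 b hb)
  have h3 := orderOf_eq_of_isConj hc
  have h4 := fxn_conj hc
  rw [e1, f1] at h3
  rw [e2, f2] at h4
  exact Prod.ext h3 h4

end RuCls

theorem ru_model : Big SporadicB.RuOrder.H := by
  have hcard : Nat.card SporadicB.RuOrder.H = 145926144000 := SporadicB.RuOrder.card_H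
  have hfin : Finite SporadicB.RuOrder.H := Nat.finite_of_card_ne_zero (by rw [hcard]; norm_num)
  have hiso : Spor.IsoRu SporadicB.RuOrder.H := ⟨RuLat.Main.equiv.symm⟩
  obtain ⟨x, hx⟩ : HasOrd SporadicB.RuOrder.H 29 := hasOrd_prime (by norm_num) (by rw [hcard]; norm_num)
  exact big_of_isolated (r := 29) (n := 5031936000) (e := 14) (m := 2) (k := 26) (by norm_num) hx
    (H547.SelfCent.Ru.ru hiso (H393.Iso.na_ru hiso) hx)
    (by rw [hcard]) (by norm_num) (by norm_num) (by norm_num) RuCls.classes (by norm_num)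

/-- **the row `Ru`** -/
theorem ru {S : Type*} [Group S] (h : Cfsg.Spor.IsoRu S) : Cfsg.Agent.H504.Zeros.Big S := by
  obtain ⟨e⟩ := h
  exact Big.of_equiv (e.trans RuLat.Main.equiv) ru_model

end Cfsg.Agent.H153.Zeros
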