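import Cfsg.Agent.H469.Exc.Model
import Cfsg.Agent.H459.Iface

/-!
# Automorphisms of order `p ≥ 5` of the exceptional groups: inner, or normalising an `r`-subgroup (tasks 311, 312)

* `fixR_or_inner` : `K₀` in the fixed points of a Frobenius automorphism `σ` of `D.group k`, the `r`-elements and the
  elements of order `p` fixed by `σ` in `K₀`: an automorphism of order `p` of `K₀` fixes a nontrivial `r`-element or is inner;
* `torus_pow` : the `m`-th power of a torus element is a product of the elements `h_j(c_j)`.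
-/

set_option autoImplicit false
set_option linter.unusedSectionVars false

namespace Cfsg.Agent.H153.Exc

open CoxeterSystem Cfsg Cfsg.Lie Cfsg.Lie.ChevalleyDatum
open Cfsg.Agent.ChevalleyStructure Cfsg.Agent.ChevalleyStructure.Elts Cfsg.Agent.ChevalleyStructure.CoxeterGeom
  Cfsg.Agent.ChevalleyStructure.CoxeterGeomTypes Cfsg.Agent.ChevalleyStructure.NPerm
open Cfsg.Agent.Tits.Roots Cfsg.Agent.Tits.Core Cfsg.Agent.Nodes Cfsg.Agent.Nodes.Reps Cfsg.Agent.Nodes.BNOf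
  Cfsg.Agent.Nodes.RGDChev Cfsg.Agent.Nodes.Bruhat Cfsg.Agent.Nodes.NormalForm
open Cfsg.Agent.KFacts.RgdField Cfsg.Agent.KFacts.RgdChevCoord
open Cfsg.Agent.BpExc Cfsg.Agent.BpExc.FamField Cfsg.Agent.BpExc.TorCent Cfsg.Agent.BpExc.TorChev Cfsg.Agent.BpExc.Tow
  Cfsg.Agent.BpExc.TowChev Cfsg.Agent.BpExc.Fr Cfsg.Agent.BpExc.Pair Cfsg.Agent.BpExc.LangFr Cfsg.Agent.GpExc.Field
  Cfsg.Agent.BpExc.FamUntw Cfsg.Agent.BpExc.FamInst Cfsg.Agent.H459.Iface

universe u v w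

/-- a power of a product in a normalised subgroup -/
theorem pow_mem_of_pow {Y : Type*} [Group Y] {N : Subgroup Y} {a t : Y} (ha : a ∈ N)
    (hn : ∀ b ∈ N, t * b * t⁻¹ ∈ N) {m : ℕ} (hm : t ^ m ∈ N) : (a * t) ^ m ∈ N := by
  have hn' : ∀ j : ℕ, ∀ b ∈ N, t ^ j * b * (t ^ j)⁻¹ ∈ N := by
    intro j
    induction j with
    | zero => intro b hb; simpa using hb
    | succ j ih =>
      intro b hb
      have h1 := hn _ (ih b hb)
      have e : t ^ (j + 1) * b * (t ^ (j + 1))⁻¹ = t * (t ^ j * b * (t ^ j)⁻¹) * t⁻¹ := by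
        rw [pow_succ']; group
      rwa [e]
  have key : ∀ j : ℕ, ∃ b ∈ N, (a * t) ^ j = b * t ^ j := by
    intro j
    induction j with
    | zero => exact ⟨1, one_mem _, by simp⟩
    | succ j ih =>
      obtain ⟨b, hb, e⟩ := ih
      refine ⟨b * (t ^ j * a * (t ^ j)⁻¹), mul_mem hb (hn' j a ha), ?_⟩
      rw [pow_succ, e, pow_succ]
      group
  obtain ⟨b, hb, e⟩ := key m
  rw [e]
  exact mul_mem hb hm

/-- an element with coprime powers in a subgroup -/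
theorem mem_of_coprime {Y : Type*} [Group Y] {N : Subgroup Y} {y : Y} {m p : ℕ} (hm : m.Coprime p) (h1 : y ^ m ∈ N)
    (h2 : y ^ p = 1) : y ∈ N := by
  have h3 : (m.gcd p : ℤ) = m * m.gcdA p + p * m.gcdB p := Nat.gcd_eq_gcd_ab m p
  rw [hm.gcd_eq_one] at h3
  have h4 : y = (y ^ m) ^ (m.gcdA p) := by
    calc y = y ^ (((1 : ℕ) : ℤ)) := by rw [Nat.cast_one, zpow_one]
      _ = y ^ ((m : ℤ) * m.gcdA p) * (y ^ ((p : ℤ) * m.gcdB p)) := by rw [h3, zpow_add]
      _ = (y ^ m) ^ (m.gcdA p) := by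
        rw [zpow_mul, zpow_mul, zpow_natCast, zpow_natCast, h2, one_zpow, mul_one]
  rw [h4]
  exact N.zpow_mem h1 _

section

variable {D : ChevalleyDatum} {l : ℕ} {M : CoxeterMatrix (Fin l)} (hp : IsType D l M) {k : Type u} [Field k]
  {W : Type v} [Group W] (cs : CoxeterSystem M W) {r : ℕ} [Fact r.Prime] [CharP k r] {p : ℕ} [Fact p.Prime]

include hp cs in
/-- **Automorphisms of order `p` : inner, or fixing an `r`-element.** -/
theorem fixR_or_inner [IsAlgClosed k] (hk : LocFin k) (hl : 0 < l) {σ : MulAut ↥(D.group k)}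
    [Finite ↥(fixedSubgroup σ)] {K₀ : Type w} [Group K₀] (ι : K₀ →* ↥(D.group k)) (hι : Function.Injective ι)
    (hidx : ∀ y, σ y = y → ∃ m : ℕ, m.Coprime r ∧ y ^ m ∈ ι.range)
    (hidp : ∀ y, σ y = y → y ^ p = 1 → y ∈ ι.range)
    (hfam : ∀ x : MulAut K₀, orderOf x = p →
      (∃ y : ↥(D.group k), y ^ p = 1 ∧ σ y = y ∧ ∀ a, ι (x a) = y * ι a * y⁻¹) ∨
      ∃ (i : ℕ) (c : ↥(D.group k)) (φ : MulAut ↥(D.group k)) (g' : (Fin l → ℤ) ≃+ (Fin l → ℤ)) (e' : ℕ),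
        i.Coprime p ∧ 0 < e' ∧ IsFrob r e' φ ∧ Fr cs hp.isCartan (TT D k) (XX D l k) φ g' ∧
        fixedSubgroup (MulAut.conj c * φ) ≤ fixedSubgroup σ ∧ ∀ a, ι ((x ^ i) a) = (MulAut.conj c * φ) (ι a))
    {x : MulAut K₀} (hx : orderOf x = p) : FixR r x ∨ ∃ y : K₀, x = MulAut.conj y := by
  rcases hfam x hx with ⟨y, hyp, hσy, hy⟩ | ⟨i, c, φ, g', e', hi, he', hφ, Fφ, hle, hy⟩
  · right
    obtain ⟨y₀, rfl⟩ := hidp y hσy hyp
    refine ⟨y₀, MulEquiv.ext fun a => hι ?_⟩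
    rw [hy a, MulAut.conj_apply, map_mul, map_mul, map_inv]
  · left
    have hfin' : Finite ↥(fixedSubgroup (MulAut.conj c * φ)) :=
      Finite.of_injective (Subgroup.inclusion hle) (Subgroup.inclusion_injective _)
    obtain ⟨z, hz⟩ := lang_all hp cs he' hφ Fφ 1 c
    rw [map_one, one_mul] at hz
    have hfin : Finite ↥(fixedSubgroup φ) := Finite.of_equiv _ (Good.fieldEquiv hz).symm.toEquiv
    have hα : IsRoot cs hp.isCartan (sr (⟨0, hl⟩ : Fin l)) := isRoot_sr _ _ _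
    have h1 : ((1 : ↥(D.group k)) * 1 * 1⁻¹) = 1 := by group
    have hne : (Sx cs hp.isCartan (ch hp) ((1 : ↥(D.group k)) * 1 * 1⁻¹)).Nonempty := by
      refine ⟨_, hα, ?_⟩
      rw [h1]
      have := H469.Exc.ch_pow hp cs (r := r) hk hα (one_mem (TT D k)) 0
      rwa [pow_zero, pow_zero] at this
    obtain ⟨u, hu1, ⟨j, hj⟩, hu⟩ := H469.Exc.exists_unip_fix hp cs hk he' hφ Fφ (x := 1) (map_one φ) (z := 1)
      (by rw [h1]; exact one_mem _) hne
    have hu' : u ∈ fixedSubgroup φ := hu.1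
    obtain ⟨v, hv⟩ : ∃ v, v = Good.fieldEquiv hz ⟨u, hu'⟩ := ⟨_, rfl⟩
    have hv1 : (v : ↥(D.group k)) ≠ 1 := by
      intro h
      apply hu1
      have h6 : Good.fieldEquiv hz ⟨u, hu'⟩ = 1 := by rw [← hv]; exact Subtype.ext h
      rw [EmbeddingLike.map_eq_one_iff] at h6
      exact congrArg Subtype.val h6
    have hvj : (v : ↥(D.group k)) ^ r ^ j = 1 := by
      rw [← Subgroup.coe_pow, hv, ← map_pow]
      have h6 : (⟨u, hu'⟩ : ↥(fixedSubgroup φ)) ^ r ^ j = 1 := Subtype.ext hj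
      rw [h6, map_one]
      rfl
    have hvσ : σ (v : ↥(D.group k)) = v := hle v.2
    obtain ⟨m, hm, hmr⟩ := hidx _ hvσ
    obtain ⟨v₀, hv₀⟩ := H469.Exc.mem_of_pow hvj hm hmr
    have hxv : (x ^ i) v₀ = v₀ := by
      apply hι
      rw [hy, hv₀]
      exact v.2
    have h3 : x ^ p = 1 := by rw [← hx]; exact pow_orderOf_eq_one x
    have hxv' : x v₀ = v₀ := by
      have h4 : v₀ ∈ fixedSubgroup (x ^ i) := hxv
      rw [Glue.fixedSubgroup_pow h3 hi] at h4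
      exact h4
    refine FixR.of_mem (v := v₀) (fun h => hv1 ?_) hxv' ⟨j, hι ?_⟩
    · rw [← hv₀, h, map_one]
    · rw [map_pow, hv₀, hvj, map_one]

end

end Cfsg.Agent.H153.Exc
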