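import Cfsg.Agent.H153.ExcOut
import Cfsg.Agent.BpExc.FamTwSix
import Cfsg.Agent.BpExc.EmbInst
import Cfsg.Agent.BpExc.RowsUntw

/-!
# The index of the finite exceptional groups in the fixed points of `σ` is prime to `p ≥ 5` (tasks 311, 312)

* `torus_pow` : the `m`-th power of a torus element is a product of elements `h_j(c_j)`, `j` the fundamental roots;
* `mem_untw` : `y ^ p = 1`, `y` fixed by the Frobenius automorphism: `y ∈ D.group F`.
-/

set_option autoImplicit false
set_option linter.unusedSectionVars false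

namespace Cfsg.Agent.H153.Exc

open CoxeterSystem Cfsg Cfsg.Lie Cfsg.Lie.ChevalleyDatum
open Cfsg.Agent.ChevalleyStructure Cfsg.Agent.ChevalleyStructure.Elts Cfsg.Agent.ChevalleyStructure.CoxeterGeom
  Cfsg.Agent.ChevalleyStructure.CoxeterGeomTypes Cfsg.Agent.ChevalleyStructure.NPerm
open Cfsg.Agent.Tits.Roots Cfsg.Agent.Tits.Core Cfsg.Agent.Nodes Cfsg.Agent.Nodes.Reps Cfsg.Agent.Nodes.BNOf
  Cfsg.Agent.Nodes.RGDChev Cfsg.Agent.Nodes.Bruhat Cfsg.Agent.Nodes.NormalForm
open Cfsg.Agent.KFacts.RgdField Cfsg.Agent.KFacts.RgdChevCoord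
open Cfsg.Agent.BpExc Cfsg.Agent.BpExc.FamField Cfsg.Agent.BpExc.TorCent Cfsg.Agent.BpExc.TorChev Cfsg.Agent.BpExc.Tow
  Cfsg.Agent.BpExc.TowChev Cfsg.Agent.BpExc.Fr Cfsg.Agent.BpExc.Pair Cfsg.Agent.BpExc.LangFr Cfsg.Agent.GpExc.Field
  Cfsg.Agent.BpExc.FamUntw Cfsg.Agent.BpExc.FamInst Cfsg.Agent.BpExc.FamExt
open Cfsg.Agent.BpExc.FamTw.Tor (hG_conj exists_c eq_of_act)

universe u v w

section Torus

variable {D : ChevalleyDatum} {l : ℕ} {M : CoxeterMatrix (Fin l)} (hp : IsType D l M) {F : Type u} [Field F]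

/-- the product of the `h_j(c_j)` -/
def hP (hD : InList D) (l : ℕ) (c : Fin l → F) : GL D.Idx F :=
  ((List.finRange l).map fun j : Fin l => hG hD (D.simple j) (c j)).prod

theorem list_act (c : Fin l → F) (hc : ∀ j, c j ≠ 0) {s : ℕ} (hs : s < D.nroots) (L : List (Fin l)) (a : F) :
    (L.map fun j : Fin l => hG hp.inList (D.simple j) (c j)).prod * xG hp.inList s a *
      ((L.map fun j : Fin l => hG hp.inList (D.simple j) (c j)).prod)⁻¹ =
      xG hp.inList s ((L.map fun j : Fin l => c j ^ D.cartan j s).prod * a) := by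
  induction L generalizing a with
  | nil => simp
  | cons j L ih =>
    rw [List.map_cons, List.prod_cons, List.map_cons, List.prod_cons]
    have e : ∀ (x y z : GL D.Idx F), x * y * z * (x * y)⁻¹ = x * (y * z * y⁻¹) * x⁻¹ := fun x y z => by group
    rw [e, ih, hG_conj hp (lt_rank hp j) hs (hc j), mul_assoc]

theorem hP_act (c : Fin l → F) (hc : ∀ j, c j ≠ 0) {s : ℕ} (hs : s < D.nroots) (a : F) :
    hP hp.inList l c * xG hp.inList s a * (hP hp.inList l c)⁻¹ =
      xG hp.inList s ((∏ j : Fin l, c j ^ D.cartan j s) * a) := by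
  rw [Fin.prod_univ_def]
  exact list_act hp c hc hs _ a

theorem hP_mem (c : Fin l → F) (hc : ∀ j, c j ≠ 0) : hP hp.inList l c ∈ D.diagonalSubgroup F := by
  refine Subgroup.list_prod_mem _ fun x hx => ?_
  obtain ⟨j, -, rfl⟩ := List.mem_map.1 hx
  exact hG_mem_diagonal hp.inList (simple_lt hp.inList (lt_rank hp j)) (hc j)

theorem glMap_hP {k : Type v} [Field k] (f : F →+* k) (hD : InList D) (c : Fin l → F) :
    glMap D f (hP hD l c) = hP hD l (fun j => f (c j)) := by
  unfold hP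
  rw [map_list_prod, List.map_map]
  congr 1
  refine List.map_congr_left fun j _ => ?_
  exact Cfsg.Agent.BpExc.Emb.glMap_hG' hD f _ _

/-- **The `m`-th power of a torus element**, any order of the factors. -/
theorem torus_pow' {m : ℕ} {B : Fin l → Fin l → ℤ}
    (hB : ∀ i k : Fin l, ∑ j : Fin l, B i j * D.cartan j (D.simple k) = if i = k then (m : ℤ) else 0)
    {t : GL D.Idx F} (ht : t ∈ D.diagonalSubgroup F) {b : Fin l → F} (hb0 : ∀ i, b i ≠ 0)
    (hact : ∀ (i : Fin l) (a : F), t * xG hp.inList (D.simple i) a * t⁻¹ = xG hp.inList (D.simple i) (b i * a))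
    {L : List (Fin l)} (hL : L.Perm (List.finRange l)) :
    t ^ m = (L.map fun j : Fin l => hG hp.inList (D.simple j) (∏ i, b i ^ B i j)).prod := by
  have hc0 : ∀ j : Fin l, (∏ i, b i ^ B i j) ≠ 0 := fun j =>
    Finset.prod_ne_zero_iff.2 fun i _ => zpow_ne_zero _ (hb0 i)
  refine eq_of_act hp (pow_mem ht m) (Subgroup.list_prod_mem _ fun x hx => ?_) fun k => ?_
  · obtain ⟨j, -, rfl⟩ := List.mem_map.1 hx
    exact hG_mem_diagonal hp.inList (simple_lt hp.inList (lt_rank hp j)) (hc0 j)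
  rw [list_act hp (fun j => ∏ i, b i ^ B i j) hc0 (simple_lt hp.inList (lt_rank hp k)),
    (hL.map fun j : Fin l => (∏ i, b i ^ B i j) ^ D.cartan j (D.simple k)).prod_eq, ← Fin.prod_univ_def]
  have h1 : ∀ (n : ℕ) (a : F), t ^ n * xG hp.inList (D.simple k) a * (t ^ n)⁻¹ =
      xG hp.inList (D.simple k) (b k ^ n * a) := by
    intro n
    induction n with
    | zero => intro a; simp
    | succ n ih =>
      intro a
      have e : t ^ (n + 1) * xG hp.inList (D.simple k) a * (t ^ (n + 1))⁻¹ =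
          t * (t ^ n * xG hp.inList (D.simple k) a * (t ^ n)⁻¹) * t⁻¹ := by
        rw [pow_succ']; group
      rw [e, ih, hact, pow_succ', mul_assoc]
  rw [h1]
  congr 2
  have hzp : ∀ (i : Fin l) (s : Finset (Fin l)) (g : Fin l → ℤ), ∏ j ∈ s, b i ^ g j = b i ^ ∑ j ∈ s, g j := by
    intro i s g
    induction s using Finset.induction_on with
    | empty => simp
    | insert b' s hb ih => rw [Finset.prod_insert hb, Finset.sum_insert hb, ih, zpow_add₀ (hb0 i)]
  have h2 : ∀ j : Fin l, (∏ i, b i ^ B i j) ^ D.cartan j (D.simple k) =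
      ∏ i, b i ^ (B i j * D.cartan j (D.simple k)) := by
    intro j
    rw [← Finset.prod_zpow]
    exact Finset.prod_congr rfl fun i _ => (zpow_mul _ _ _).symm
  rw [Finset.prod_congr rfl fun j _ => h2 j, Finset.prod_comm,
    Finset.prod_congr rfl fun i _ => hzp i Finset.univ fun j => B i j * D.cartan j (D.simple k),
    Finset.prod_congr rfl fun i _ => congrArg (b i ^ ·) (hB i k), Finset.prod_eq_single k]
  · rw [if_pos rfl, zpow_natCast]
  · intro i _ hi
    rw [if_neg hi, zpow_zero]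
  · intro h
    exact absurd (Finset.mem_univ k) h

/-- **The `m`-th power of a torus element.** -/
theorem torus_pow {m : ℕ} {B : Fin l → Fin l → ℤ}
    (hB : ∀ i k : Fin l, ∑ j : Fin l, B i j * D.cartan j (D.simple k) = if i = k then (m : ℤ) else 0)
    {t : GL D.Idx F} (ht : t ∈ D.diagonalSubgroup F) {b : Fin l → F} (hb0 : ∀ i, b i ≠ 0)
    (hact : ∀ (i : Fin l) (a : F), t * xG hp.inList (D.simple i) a * t⁻¹ = xG hp.inList (D.simple i) (b i * a)) :
    t ^ m = hP hp.inList l fun j => ∏ i, b i ^ B i j :=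
  torus_pow' hp hB ht hb0 hact (List.Perm.refl _)

/-- the scalars of a torus element -/
theorem exists_b {t : GL D.Idx F} (ht : t ∈ D.diagonalSubgroup F) : ∃ b : Fin l → F, (∀ i, b i ≠ 0) ∧
    ∀ (i : Fin l) (a : F), t * xG hp.inList (D.simple i) a * t⁻¹ = xG hp.inList (D.simple i) (b i * a) := by
  obtain ⟨c, hc, -, hact⟩ := exists_c hp ht
  refine ⟨fun i => ∏ j ∈ Finset.range D.rank, c j ^ D.cartan j (D.simple i), fun i => ?_, fun i a =>
    hact _ (simple_lt hp.inList (lt_rank hp i)) a⟩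
  exact Finset.prod_ne_zero_iff.2 fun j hj => zpow_ne_zero _ (hc j (Finset.mem_range.1 hj))

end Torus

/-! ### the untwisted groups -/

section Untw

variable {D : ChevalleyDatum} {l : ℕ} {M : CoxeterMatrix (Fin l)} (hp : IsType D l M) {F : Type u} [Field F]
  [Fintype F] {k : Type v} [Field k] {f : F →+* k}

/-- **The index is prime to `p`**, untwisted groups. -/
theorem mem_untw {d : ℕ} {B : Fin l → Fin l → ℤ} (hB : InvC D l d B) {φ : k →+* k}
    (hφ : ∀ t, φ t = t ^ Fintype.card F) {y : ↥(D.group k)} (hy : glMap D φ (y : GL D.Idx k) = y) {p : ℕ}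
    (hdp : d.Coprime p) (hyp : y ^ p = 1) : y ∈ (emb hp.inList f).range := by
  obtain ⟨a, ha, t, ht, e⟩ := EmbSplit.untw_split hp.inList (Emb.fix_iff_range (f := f) hφ) y.2 hy
  have hfr : ∀ c ∈ Set.range f, φ c = c := fun c hc => (Emb.fix_iff_range (f := f) hφ c).2 hc
  have hfa : glMap D φ (glMap D f a) = glMap D f a := by
    apply Units.ext
    rw [coe_glMap, coe_glMap]
    ext i j
    exact hfr _ ⟨_, rfl⟩
  have hσt : glMap D φ t = t := by
    have h1 := hy
    rw [e, map_mul, hfa] at h1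
    exact mul_left_cancel h1
  obtain ⟨b, hb0, hact⟩ := exists_b hp ht
  have hb : ∀ i, b i ∈ Set.range f := by
    intro i
    rw [← Emb.fix_iff_range (f := f) hφ]
    have h1 := congrArg (glMap D φ) (hact i 1)
    rw [map_mul, map_mul, map_inv, hσt, glMap_xG, glMap_xG, map_one, hact, mul_one] at h1
    exact (xG_injective hp.inList (simple_lt hp.inList (lt_rank hp i)) h1).symm
  choose b' hb' using hb
  have htd : t ^ d = glMap D f (hP hp.inList l fun j => ∏ i, b' i ^ B i j) := by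
    rw [glMap_hP, torus_pow hp (fun i k => ?_) ht hb0 hact]
    · congr 1
      funext j
      rw [map_prod]
      exact Finset.prod_congr rfl fun i _ => by rw [map_zpow₀, hb']
    · have := hB i k
      simpa only [cartanOf_def] using this
  have hta : t ∈ D.group k := diagonal_le_group hp.inList k ht
  have e' : y = emb hp.inList f ⟨a, ha⟩ * ⟨t, hta⟩ := Subtype.ext e
  have hb0' : ∀ i, b' i ≠ 0 := fun i h => hb0 i (by rw [← hb', h, map_zero])
  have hPm : (hP hp.inList l fun j => ∏ i, b' i ^ B i j) ∈ D.group F :=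
    diagonal_le_group hp.inList F (hP_mem hp _ fun j =>
      Finset.prod_ne_zero_iff.2 fun i _ => zpow_ne_zero _ (hb0' i))
  refine mem_of_coprime hdp ?_ hyp
  rw [e']
  refine pow_mem_of_pow (N := (emb hp.inList f).range) ⟨_, rfl⟩ (fun c hc => ?_) ⟨⟨_, hPm⟩, Subtype.ext ?_⟩
  · obtain ⟨x, hx⟩ := hc
    have hn := Emb.mem_normalizer hp.inList (f := f) (Emb.fix_iff_range (f := f) hφ) (g := t) hta hσt
    obtain ⟨z, hz, hz'⟩ := (Subgroup.mem_normalizer_iff.1 hn (glMap D f (x : GL D.Idx F))).1 ⟨x, x.2, rfl⟩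
    refine ⟨⟨z, hz⟩, Subtype.ext ?_⟩
    rw [← hx]
    exact hz'
  · rw [Subgroup.coe_pow]
    exact htd.symm

end Untw

end Cfsg.Agent.H153.Exc
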