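import Cfsg.Agent.H153.ExcTor
import Cfsg.Agent.BpTab.Final

/-!
# The index of `²E₆(q)`, `³D₄(q)` in the fixed points of `σ` is prime to `p ≥ 5` (tasks 311, 312)

* `b_rho` : the scalars of a torus element fixed by `gr * fld Φ`;
* `hh_mem`, `hhh_mem` : `h_r(c) h_s(φ c)`, `h_r(c) h_s(φ c) h_u(φ² c)` in the subgroup generated by the products of root
  elements;
* `mem_twE6`, `mem_twD4`.
-/

set_option autoImplicit false
set_option linter.unusedSectionVars false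

namespace Cfsg.Agent.H153.Exc

open CoxeterSystem Cfsg Cfsg.Lie Cfsg.Lie.ChevalleyDatum
open Cfsg.Agent.ChevalleyStructure Cfsg.Agent.ChevalleyStructure.Elts Cfsg.Agent.ChevalleyStructure.CoxeterGeom
  Cfsg.Agent.ChevalleyStructure.CoxeterGeomTypes Cfsg.Agent.ChevalleyStructure.NPerm
open Cfsg.Agent.Tits.Roots Cfsg.Agent.Tits.Core Cfsg.Agent.Nodes Cfsg.Agent.Nodes.Reps Cfsg.Agent.Nodes.BNOf
  Cfsg.Agent.Nodes.RGDChev Cfsg.Agent.Nodes.Bruhat Cfsg.Agent.Nodes.NormalForm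
open Cfsg.Agent.KFacts.RgdField Cfsg.Agent.KFacts.RgdChevCoord
open Cfsg.Agent.BpExc Cfsg.Agent.BpExc.FamField Cfsg.Agent.BpExc.TorCent Cfsg.Agent.BpExc.TorChev Cfsg.Agent.BpExc.Tow
  Cfsg.Agent.BpExc.TowChev Cfsg.Agent.BpExc.Fr Cfsg.Agent.BpExc.Pair Cfsg.Agent.BpExc.LangFr Cfsg.Agent.GpExc.Field
  Cfsg.Agent.BpExc.FamUntw Cfsg.Agent.BpExc.FamInst Cfsg.Agent.BpExc.FamExt Cfsg.Agent.BpExc.FamTw.Gr
open Cfsg.Agent.ChevalleyStructure.SignedSymm
open Cfsg.Agent.ChevalleyStructure.GraphSymm (symmE6 symmD4a)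
open Cfsg.Agent.BpExc.FamTw.Tor (hG_conj exists_c eq_of_act)

universe u v w

/-! ### the scalars -/

section Rho

variable {D : ChevalleyDatum} {l : ℕ} {M : CoxeterMatrix (Fin l)} (hp : IsType D l M) {S : Symm D} {k : Type u}
  [Field k] {ρ : Fin l → Fin l} (H : OnSimple D l S ρ)

include H in
/-- **The scalars of a torus element fixed by `gr * fld Φ`.** -/
theorem b_rho {Φ : k →+* k} {t : GL D.Idx k} {b : Fin l → k}
    (hact : ∀ (i : Fin l) (a : k), t * xG hp.inList (D.simple i) a * t⁻¹ = xG hp.inList (D.simple i) (b i * a))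
    (hσt : S.P k * glMap D Φ t * (S.P k)⁻¹ = t) (i : Fin l) : b (ρ i) = Φ (b i) := by
  obtain ⟨hlt, h2, h3⟩ := H.map i
  have h4 := congrArg (fun g => S.P k * glMap D Φ g * (S.P k)⁻¹) (hact i 1)
  have e1 : S.P k * glMap D Φ (xG hp.inList (D.simple i) 1) * (S.P k)⁻¹ = xG hp.inList (D.simple (ρ i)) 1 := by
    have := P_xG (L := k) hp.inList S ⟨D.simple i, hlt⟩ 1
    rw [h3, Int.cast_one, one_mul, h2] at this
    rw [glMap_xG, map_one]
    exact this
  have e2 : S.P k * glMap D Φ (xG hp.inList (D.simple i) (b i * 1)) * (S.P k)⁻¹ =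
      xG hp.inList (D.simple (ρ i)) (Φ (b i)) := by
    have := P_xG (L := k) hp.inList S ⟨D.simple i, hlt⟩ (Φ (b i))
    rw [h3, Int.cast_one, one_mul, h2] at this
    rw [glMap_xG, mul_one]
    exact this
  have h5 : S.P k * glMap D Φ (t * xG hp.inList (D.simple i) 1 * t⁻¹) * (S.P k)⁻¹ =
      (S.P k * glMap D Φ t * (S.P k)⁻¹) * (S.P k * glMap D Φ (xG hp.inList (D.simple i) 1) * (S.P k)⁻¹) *
        (S.P k * glMap D Φ t * (S.P k)⁻¹)⁻¹ := by
    simp only [map_mul, map_inv]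
    group
  have h6 : xG hp.inList (D.simple (ρ i)) (b (ρ i)) = xG hp.inList (D.simple (ρ i)) (Φ (b i)) := by
    rw [← e2, ← h4]
    show _ = S.P k * glMap D Φ (t * xG hp.inList (D.simple i) 1 * t⁻¹) * (S.P k)⁻¹
    rw [h5, hσt, e1, hact, mul_one]
  exact xG_injective hp.inList (simple_lt hp.inList (lt_rank hp _)) h6

end Rho

/-! ### the elements `h` of the twisted groups -/

section HH

/-- two commuting copies of `n` -/
theorem n_mul {Γ : Type*} [Group Γ] {a a' b b' : Γ} (h1 : Commute a b) (h2 : Commute a b') (h3 : Commute a' b) :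
    (a * b) * ((a' * b') * (a * b)) = (a * (a' * a)) * (b * (b' * b)) := by
  calc (a * b) * ((a' * b') * (a * b)) = a * (b * a') * (b' * a) * b := by group
    _ = a * (a' * b) * (a * b') * b := by rw [h3.eq, h2.eq]
    _ = a * a' * (b * a) * b' * b := by group
    _ = a * a' * (a * b) * b' * b := by rw [h1.eq]
    _ = _ := by group

variable {D : ChevalleyDatum} (hD : InList D) {K : Type u} [Field K]

/-- strongly orthogonal root groups -/
def C4 (K : Type u) [Field K] (r s : ℕ) : Prop :=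
  ∀ t u : K, Commute (xG hD r t) (xG hD s u) ∧ Commute (xG hD r t) (xG hD (D.neg s) u) ∧
    Commute (xG hD (D.neg r) t) (xG hD s u) ∧ Commute (xG hD (D.neg r) t) (xG hD (D.neg s) u)

variable {hD}

theorem C4.nG {r s : ℕ} (h : C4 hD K r s) (t u : K) : Commute (nG hD r t) (nG hD s u) := by
  have key : ∀ y : GL D.Idx K, (∀ t, Commute (xG hD r t) y) → (∀ t, Commute (xG hD (D.neg r) t) y) →
      Commute (Elts.nG hD r t) y := by
    intro y h1 h2
    rw [nG_def]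
    exact (h1 _).mul_left ((h2 _).mul_left (h1 _))
  refine key _ (fun t => ?_) (fun t => ?_)
  · rw [nG_def]
    exact (h _ _).1.mul_right ((h _ _).2.1.mul_right (h _ _).1)
  · rw [nG_def]
    exact (h _ _).2.2.1.mul_right ((h _ _).2.2.2.mul_right (h _ _).2.2.1)

/-- single roots -/
theorem h_mem {r : ℕ} {G : Subgroup (GL D.Idx K)} {E : K → Prop} (hE : E (-1)) (hE' : ∀ c, E c → E (-c⁻¹))
    (h1 : ∀ t, E t → xG hD r t ∈ G) (h2 : ∀ t, E t → xG hD (D.neg r) t ∈ G) {c : K} (hc : E c) : hG hD r c ∈ G := by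
  have key : ∀ c, E c → nG hD r c ∈ G := by
    intro c hc
    rw [nG_def]
    exact mul_mem (h1 _ hc) (mul_mem (h2 _ (hE' _ hc)) (h1 _ hc))
  rw [hG_def]
  exact mul_mem (key _ hc) (key _ hE)

/-- pairs of roots -/
theorem hh_mem {r s : ℕ} {G : Subgroup (GL D.Idx K)} {φ : K →+* K} (hC : C4 hD K r s)
    (h1 : ∀ t, xG hD r t * xG hD s (φ t) ∈ G) (h2 : ∀ t, xG hD (D.neg r) t * xG hD (D.neg s) (φ t) ∈ G) (c : K) :
    hG hD r c * hG hD s (φ c) ∈ G := by
  have key : ∀ c, nG hD r c * nG hD s (φ c) ∈ G := by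
    intro c
    rw [nG_def, nG_def, ← n_mul (hC _ _).1 (hC _ _).2.1 (hC _ _).2.2.1]
    refine mul_mem (h1 _) (mul_mem ?_ (h1 _))
    have := h2 (-c⁻¹)
    rwa [map_neg, map_inv₀] at this
  have h3 := key (-1)
  rw [map_neg, map_one] at h3
  rw [hG_def, hG_def]
  have e : nG hD r c * nG hD r (-1) * (nG hD s (φ c) * nG hD s (-1)) =
      (nG hD r c * nG hD s (φ c)) * (nG hD r (-1) * nG hD s (-1)) := by
    have h4 := (hC.nG (-1) (φ c)).eq
    calc nG hD r c * nG hD r (-1) * (nG hD s (φ c) * nG hD s (-1))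
        = nG hD r c * (nG hD r (-1) * nG hD s (φ c)) * nG hD s (-1) := by group
      _ = nG hD r c * (nG hD s (φ c) * nG hD r (-1)) * nG hD s (-1) := by rw [h4]
      _ = _ := by group
  rw [e]
  exact mul_mem (key c) h3

/-- triples of roots -/
theorem hhh_mem {r s u : ℕ} {G : Subgroup (GL D.Idx K)} {φ ψ : K →+* K} (hC : C4 hD K r s) (hC' : C4 hD K r u)
    (hC'' : C4 hD K s u)
    (h1 : ∀ t, xG hD r t * (xG hD s (φ t) * xG hD u (ψ t)) ∈ G)
    (h2 : ∀ t, xG hD (D.neg r) t * (xG hD (D.neg s) (φ t) * xG hD (D.neg u) (ψ t)) ∈ G) (c : K) :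
    hG hD r c * (hG hD s (φ c) * hG hD u (ψ c)) ∈ G := by
  have key : ∀ c, nG hD r c * (nG hD s (φ c) * nG hD u (ψ c)) ∈ G := by
    intro c
    rw [nG_def, nG_def, nG_def, ← n_mul (hC'' _ _).1 (hC'' _ _).2.1 (hC'' _ _).2.2.1,
      ← n_mul ((hC _ _).1.mul_right (hC' _ _).1) ((hC _ _).2.1.mul_right (hC' _ _).2.1)
        ((hC _ _).2.2.1.mul_right (hC' _ _).2.2.1)]
    refine mul_mem (h1 _) (mul_mem ?_ (h1 _))
    have := h2 (-c⁻¹)
    rwa [map_neg, map_neg, map_inv₀, map_inv₀] at this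
  have h3 := key (-1)
  rw [map_neg, map_neg, map_one, map_one] at h3
  rw [hG_def, hG_def, hG_def]
  have c1 := (hC''.nG (-1) (ψ c)).eq
  have c2 := (hC.nG (-1) (φ c)).eq
  have c3 := (hC'.nG (-1) (ψ c)).eq
  have e : nG hD r c * nG hD r (-1) * (nG hD s (φ c) * nG hD s (-1) * (nG hD u (ψ c) * nG hD u (-1))) =
      (nG hD r c * (nG hD s (φ c) * nG hD u (ψ c))) * (nG hD r (-1) * (nG hD s (-1) * nG hD u (-1))) := by
    calc nG hD r c * nG hD r (-1) * (nG hD s (φ c) * nG hD s (-1) * (nG hD u (ψ c) * nG hD u (-1)))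
        = nG hD r c * (nG hD r (-1) * nG hD s (φ c)) * (nG hD s (-1) * nG hD u (ψ c)) * nG hD u (-1) := by group
      _ = nG hD r c * (nG hD s (φ c) * nG hD r (-1)) * (nG hD u (ψ c) * nG hD s (-1)) * nG hD u (-1) := by
          rw [c1, c2]
      _ = nG hD r c * nG hD s (φ c) * (nG hD r (-1) * nG hD u (ψ c)) * nG hD s (-1) * nG hD u (-1) := by group
      _ = nG hD r c * nG hD s (φ c) * (nG hD u (ψ c) * nG hD r (-1)) * nG hD s (-1) * nG hD u (-1) := by rw [c3]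
      _ = _ := by group
  rw [e]
  exact mul_mem (key c) h3

/-- the table check -/
def c4b (D : ChevalleyDatum) (r s : ℕ) : Bool :=
  [(r, s), (r, D.neg s), (D.neg r, s), (D.neg r, D.neg s)].all fun q =>
    decide (q.1 < D.nroots) && decide (q.2 < D.nroots) && decide (q.2 ≠ q.1) && decide (q.2 ≠ D.neg q.1) &&
      (D.commTerms q.1 q.2).isEmpty

theorem C4.of_chk {r s : ℕ} (h : c4b D r s = true) : C4 hD K r s := by
  have key : ∀ r s : ℕ, (decide (r < D.nroots) && decide (s < D.nroots) && decide (s ≠ r) &&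
      decide (s ≠ D.neg r) && (D.commTerms r s).isEmpty) = true → ∀ t u : K, Commute (xG hD r t) (xG hD s u) := by
    intro r s h t u
    simp only [Bool.and_eq_true, decide_eq_true_eq, List.isEmpty_iff] at h
    obtain ⟨⟨⟨⟨h1, h2⟩, h3⟩, h4⟩, h5⟩ := h
    have h6 := UnipProd.xG_comm hD h1 h2 h3 h4 t u
    have h7 : D.commWord K r s t u = [] := by
      unfold ChevalleyDatum.commWord
      rw [h5]
      rfl
    rw [h7, wordG_nil, mul_one] at h6
    exact h6.symm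
  simp only [c4b, List.all_cons, List.all_nil, Bool.and_true, Bool.and_eq_true] at h
  obtain ⟨h1, h2, h3, h4⟩ := h
  intro t u
  exact ⟨key _ _ (by simpa only [Bool.and_eq_true] using h1) t u, key _ _ (by simpa only [Bool.and_eq_true] using h2) t u,
    key _ _ (by simpa only [Bool.and_eq_true] using h3) t u, key _ _ (by simpa only [Bool.and_eq_true] using h4) t u⟩

end HH

/-! ### `²E₆(q)` -/

section E6

open Cfsg.Agent.ChevalleyStructure.TwE6Basic (hE6 sg single_mem pair_mem exists_frob)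
open Cfsg.Agent.BpExc.FamTw.Six (B6 B6_mul em coe_em onSimple)

theorem mapE : ∀ i : Fin 6, BpExc.FamTw.Frame.rho6 i = (![5, 1, 4, 3, 2, 0] : Fin 6 → Fin 6) i := fun _ => rfl

theorem B6_rho : ∀ i j : Fin 6, B6 (BpExc.FamTw.Frame.rho6 i) (BpExc.FamTw.Frame.rho6 j) = B6 i j := by
  decide +kernel

theorem rho6_sq : ∀ i : Fin 6, BpExc.FamTw.Frame.rho6 (BpExc.FamTw.Frame.rho6 i) = i := by decide +kernel

theorem listE : ([0, 5, 2, 4, 1, 3] : List (Fin 6)).Perm (List.finRange 6) := by decide +kernel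

theorem simE : chevE6.simple (0 : Fin 6) = 56 ∧ chevE6.simple (5 : Fin 6) = 36 ∧ chevE6.simple (2 : Fin 6) = 42 ∧
    chevE6.simple (4 : Fin 6) = 37 ∧ chevE6.simple (1 : Fin 6) = 46 ∧ chevE6.simple (3 : Fin 6) = 39 ∧
    chevE6.neg 56 = 15 ∧ chevE6.neg 36 = 35 ∧ chevE6.neg 42 = 29 ∧ chevE6.neg 37 = 34 ∧ chevE6.neg 46 = 25 ∧
    chevE6.neg 39 = 32 := by decide +kernel

/-- **The index is prime to `p`**, `²E₆(q)`. -/
theorem mem_twE6 {K : Type u} [Field K] [Fintype K] {k : Type u} [Field k] {f : K →+* k} {q : ℕ} (hq : IsPrimePow q)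
    (hK : Fintype.card K = q ^ 2) {Φ : k →+* k} (hΦ : ∀ t, Φ t = t ^ q) {y : ↥(chevE6.group k)}
    (hσ : sg Φ (y : GL chevE6.Idx k) = y) {p : ℕ} (hdp : (3 : ℕ).Coprime p) (hyp : y ^ p = 1) :
    y ∈ (em q f).range := by
  obtain ⟨a, ha, t, ht, e⟩ := EmbInst.twE6_split (f := f) hq hK hΦ y.2 hσ
  have hfa := (EmbInst.twE6_fix (f := f) hq hK hΦ ha).2
  have hσt : sg Φ t = t := by
    have h1 := hσ
    rw [e, map_mul, hfa] at h1
    exact mul_left_cancel h1
  have hp : IsType chevE6 6 CoxeterMatrix.E₆ := Nodes.RGDTwE6.hp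
  obtain ⟨b, hb0, hact⟩ := exists_b hp ht
  have hbr : ∀ i, b (BpExc.FamTw.Frame.rho6 i) = Φ (b i) := fun i => b_rho hp onSimple hact hσt i
  have hb : ∀ i, b i ∈ Set.range f := by
    intro i
    refine BpExc.Emb.mem_range_of_pow f ?_
    have h1 : Φ (Φ (b i)) = b i := by rw [← hbr, ← hbr, rho6_sq]
    rw [hΦ, hΦ, ← pow_mul, ← sq, ← hK] at h1
    exact h1
  choose b' hb' using hb
  obtain ⟨φ, hφ, hqq⟩ := exists_frob hq hK
  have hbr' : ∀ i, b' (BpExc.FamTw.Frame.rho6 i) = φ (b' i) := by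
    intro i
    apply f.injective
    rw [hb', hbr, ← hb', hΦ, hφ, map_pow]
  obtain ⟨c, hc⟩ : ∃ c : Fin 6 → K, ∀ j, c j = ∏ i, b' i ^ B6 i j := ⟨fun j => ∏ i, b' i ^ B6 i j, fun _ => rfl⟩
  have hcr : ∀ j, c (BpExc.FamTw.Frame.rho6 j) = φ (c j) := by
    intro j
    rw [hc, hc, map_prod, ← Equiv.prod_comp BpExc.FamTw.Frame.rho6]
    exact Finset.prod_congr rfl fun i _ => by rw [B6_rho, hbr', map_zpow₀]
  have hfc : ∀ j, f (c j) = ∏ i, b i ^ B6 i j := by
    intro j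
    rw [hc, map_prod]
    exact Finset.prod_congr rfl fun i _ => by rw [map_zpow₀, hb']
  have hc5 : c 5 = φ (c 0) := hcr 0
  have hc4 : c 4 = φ (c 2) := hcr 2
  have hc1 : φ (c 1) = c 1 := (hcr 1).symm
  have hc3 : φ (c 3) = c 3 := (hcr 3).symm
  obtain ⟨s0, s5, s2, s4, s1, s3, n0, n5, n2, n4, n1, n3⟩ := simE
  have ht3 : t ^ 3 = glMap chevE6 f (hG hE6 56 (c 0) * (hG hE6 36 (c 5) * (hG hE6 42 (c 2) * (hG hE6 37 (c 4) *
      (hG hE6 46 (c 1) * (hG hE6 39 (c 3) * 1)))))) := by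
    rw [torus_pow' hp B6_mul ht hb0 hact listE]
    simp only [List.map_cons, List.map_nil, List.prod_cons, List.prod_nil]
    rw [← hfc, ← hfc, ← hfc, ← hfc, ← hfc, ← hfc, s0, s5, s2, s4, s1, s3, map_mul, map_mul, map_mul, map_mul, map_mul,
      map_mul, map_one]
    simp only [Cfsg.Agent.BpExc.Emb.glMap_hG']
  have hmem : hG hE6 56 (c 0) * (hG hE6 36 (c 5) * (hG hE6 42 (c 2) * (hG hE6 37 (c 4) *
      (hG hE6 46 (c 1) * (hG hE6 39 (c 3) * 1))))) ∈ twistedE6 K q := by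
    have h1 : hG hE6 56 (c 0) * hG hE6 36 (c 5) ∈ twistedE6 K q := by
      rw [hc5]
      refine hh_mem (C4.of_chk (by decide +kernel)) (fun t => ?_) (fun t => ?_) _
      · rw [hφ]; exact pair_mem t (rs := (56, 36)) (by simp)
      · rw [n0, n5, hφ]; exact pair_mem t (rs := (15, 35)) (by simp)
    have h2 : hG hE6 42 (c 2) * hG hE6 37 (c 4) ∈ twistedE6 K q := by
      rw [hc4]
      refine hh_mem (C4.of_chk (by decide +kernel)) (fun t => ?_) (fun t => ?_) _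
      · rw [hφ]; exact pair_mem t (rs := (42, 37)) (by simp)
      · rw [n2, n4, hφ]; exact pair_mem t (rs := (29, 34)) (by simp)
    have hE : ((-1 : K)) ^ q = -1 := by rw [← hφ, map_neg, map_one]
    have hE' : ∀ c : K, c ^ q = c → (-c⁻¹) ^ q = -c⁻¹ := by
      intro c hc
      rw [← hφ] at hc ⊢
      rw [map_neg, map_inv₀, hc]
    have h3 : hG hE6 46 (c 1) ∈ twistedE6 K q := by
      refine h_mem (E := fun c : K => c ^ q = c) hE hE' (fun t ht => single_mem ht (by simp)) (fun t ht => ?_)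
        (by rw [← hφ, hc1])
      rw [n1]
      exact single_mem ht (by simp)
    have h4 : hG hE6 39 (c 3) ∈ twistedE6 K q := by
      refine h_mem (E := fun c : K => c ^ q = c) hE hE' (fun t ht => single_mem ht (by simp)) (fun t ht => ?_)
        (by rw [← hφ, hc3])
      rw [n3]
      exact single_mem ht (by simp)
    have e1 : hG hE6 56 (c 0) * (hG hE6 36 (c 5) * (hG hE6 42 (c 2) * (hG hE6 37 (c 4) *
      (hG hE6 46 (c 1) * (hG hE6 39 (c 3) * 1))))) = (hG hE6 56 (c 0) * hG hE6 36 (c 5)) *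
        (hG hE6 42 (c 2) * hG hE6 37 (c 4)) * (hG hE6 46 (c 1) * hG hE6 39 (c 3)) := by group
    rw [e1]
    exact mul_mem (mul_mem h1 h2) (mul_mem h3 h4)
  have hta : t ∈ chevE6.group k := diagonal_le_group hE6 k ht
  have e' : y = em q f ⟨a, ha⟩ * ⟨t, hta⟩ := Subtype.ext e
  refine mem_of_coprime hdp ?_ hyp
  rw [e']
  refine pow_mem_of_pow (N := (em q f).range) ⟨_, rfl⟩ (fun c hc => ?_) ⟨⟨_, hmem⟩, Subtype.ext ?_⟩
  · obtain ⟨x, hx⟩ := hc
    have hn := EmbInst.twE6_normalizer (f := f) hq hK hΦ hta hσt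
    obtain ⟨z, hz, hz'⟩ := (Subgroup.mem_normalizer_iff.1 hn (glMap chevE6 f (x : GL chevE6.Idx K))).1 ⟨x, x.2, rfl⟩
    refine ⟨⟨z, hz⟩, Subtype.ext ?_⟩
    rw [← hx]
    exact hz'
  · rw [Subgroup.coe_pow, coe_em]
    exact ht3.symm

end E6

/-! ### `³D₄(q)` -/

section D4

open Cfsg.Agent.ChevalleyStructure.D4Fixed (sig)
open Cfsg.Agent.CpAut.RgdTwD4 (hD4 single_mem triple_mem)
open Cfsg.Agent.BpExc.FamTw.Four (B4 B4_mul em coe_em onSimple)

theorem B4_rho : ∀ i j : Fin 4, B4 (BpExc.FamTw.Frame.rho4 i) (BpExc.FamTw.Frame.rho4 j) = B4 i j := by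
  decide +kernel

theorem rho4_cube : ∀ i : Fin 4, BpExc.FamTw.Frame.rho4 (BpExc.FamTw.Frame.rho4 (BpExc.FamTw.Frame.rho4 i)) = i := by
  decide +kernel

theorem listD : ([0, 2, 3, 1] : List (Fin 4)).Perm (List.finRange 4) := by decide +kernel

theorem simD : chevD4.simple (0 : Fin 4) = 18 ∧ chevD4.simple (2 : Fin 4) = 13 ∧ chevD4.simple (3 : Fin 4) = 12 ∧
    chevD4.simple (1 : Fin 4) = 14 ∧ chevD4.neg 18 = 5 ∧ chevD4.neg 13 = 10 ∧ chevD4.neg 12 = 11 ∧
    chevD4.neg 14 = 9 := by decide +kernel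

/-- **The index is prime to `p`**, `³D₄(q)`. -/
theorem mem_twD4 {K : Type u} [Field K] [Fintype K] {k : Type u} [Field k] {f : K →+* k} {q : ℕ} (hq : IsPrimePow q)
    (hK : Fintype.card K = q ^ 3) {Φ : k →+* k} (hΦ : ∀ t, Φ t = t ^ q) {y : ↥(chevD4.group k)}
    (hσ : sig Φ (y : GL chevD4.Idx k) = y) {p : ℕ} (hdp : (2 : ℕ).Coprime p) (hyp : y ^ p = 1) :
    y ∈ (em q f).range := by
  obtain ⟨a, ha, t, ht, e⟩ := EmbInst.twD4_split (f := f) hq hK hΦ y.2 hσ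
  have hfa := (EmbInst.twD4_fix (f := f) hq hK hΦ ha).2
  have hσt : sig Φ t = t := by
    have h1 := hσ
    rw [e, map_mul, hfa] at h1
    exact mul_left_cancel h1
  have hp : IsType chevD4 4 Cfsg.Lie.coxeterD4 := Nodes.RGDTwD4.hp
  obtain ⟨b, hb0, hact⟩ := exists_b hp ht
  have hbr : ∀ i, b (BpExc.FamTw.Frame.rho4 i) = Φ (b i) := fun i => b_rho hp onSimple hact hσt i
  have hb : ∀ i, b i ∈ Set.range f := by
    intro i
    refine BpExc.Emb.mem_range_of_pow f ?_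
    have h1 : Φ (Φ (Φ (b i))) = b i := by rw [← hbr, ← hbr, ← hbr, rho4_cube]
    rw [hΦ, hΦ, hΦ, ← pow_mul, ← pow_mul] at h1
    have e : q * (q * q) = q ^ 3 := by ring
    rw [e, ← hK] at h1
    exact h1
  choose b' hb' using hb
  obtain ⟨φ, hφ⟩ := D4Fixed.exists_frob hq hK
  have hbr' : ∀ i, b' (BpExc.FamTw.Frame.rho4 i) = φ (b' i) := by
    intro i
    apply f.injective
    rw [hb', hbr, ← hb', hΦ, hφ, map_pow]
  obtain ⟨c, hc⟩ : ∃ c : Fin 4 → K, ∀ j, c j = ∏ i, b' i ^ B4 i j := ⟨fun j => ∏ i, b' i ^ B4 i j, fun _ => rfl⟩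
  have hcr : ∀ j, c (BpExc.FamTw.Frame.rho4 j) = φ (c j) := by
    intro j
    rw [hc, hc, map_prod, ← Equiv.prod_comp BpExc.FamTw.Frame.rho4]
    exact Finset.prod_congr rfl fun i _ => by rw [B4_rho, hbr', map_zpow₀]
  have hfc : ∀ j, f (c j) = ∏ i, b i ^ B4 i j := by
    intro j
    rw [hc, map_prod]
    exact Finset.prod_congr rfl fun i _ => by rw [map_zpow₀, hb']
  have hc2 : c 2 = φ (c 0) := hcr 0
  have hc3 : c 3 = φ (φ (c 0)) := by
    rw [← hc2]
    exact hcr 2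
  have hc1 : φ (c 1) = c 1 := (hcr 1).symm
  obtain ⟨s0, s2, s3, s1, n0, n2, n3, n1⟩ := simD
  have ht2 : t ^ 2 = glMap chevD4 f (hG hD4 18 (c 0) * (hG hD4 13 (c 2) * (hG hD4 12 (c 3) *
      (hG hD4 14 (c 1) * 1)))) := by
    rw [torus_pow' hp B4_mul ht hb0 hact listD]
    simp only [List.map_cons, List.map_nil, List.prod_cons, List.prod_nil]
    rw [← hfc, ← hfc, ← hfc, ← hfc, s0, s2, s3, s1, map_mul, map_mul, map_mul, map_mul, map_one]
    simp only [Cfsg.Agent.BpExc.Emb.glMap_hG']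
  have hmem : hG hD4 18 (c 0) * (hG hD4 13 (c 2) * (hG hD4 12 (c 3) *
      (hG hD4 14 (c 1) * 1))) ∈ twistedD4 K q := by
    have h1 : hG hD4 18 (c 0) * (hG hD4 13 (c 2) * hG hD4 12 (c 3)) ∈ twistedD4 K q := by
      rw [hc2, hc3]
      have hψ : ∀ t : K, (φ.comp φ) t = t ^ (q ^ 2) := by
        intro t
        rw [RingHom.comp_apply, hφ, hφ, ← pow_mul, sq]
      have h2 : φ (φ (c 0)) = (φ.comp φ) (c 0) := rfl
      rw [h2]
      refine hhh_mem (C4.of_chk (by decide +kernel)) (C4.of_chk (by decide +kernel)) (C4.of_chk (by decide +kernel))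
        (fun t => ?_) (fun t => ?_) _
      · rw [hφ, hψ]; exact triple_mem t (rs := (18, 13, 12)) (by simp)
      · rw [n0, n2, n3, hφ, hψ]; exact triple_mem t (rs := (5, 10, 11)) (by simp)
    have hE : ((-1 : K)) ^ q = -1 := by rw [← hφ, map_neg, map_one]
    have hE' : ∀ c : K, c ^ q = c → (-c⁻¹) ^ q = -c⁻¹ := by
      intro c hc
      rw [← hφ] at hc ⊢
      rw [map_neg, map_inv₀, hc]
    have h3 : hG hD4 14 (c 1) ∈ twistedD4 K q := by
      refine h_mem (E := fun c : K => c ^ q = c) hE hE' (fun t ht => single_mem ht (by simp)) (fun t ht => ?_)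
        (by rw [← hφ, hc1])
      rw [n1]
      exact single_mem ht (by simp)
    have e1 : hG hD4 18 (c 0) * (hG hD4 13 (c 2) * (hG hD4 12 (c 3) * (hG hD4 14 (c 1) * 1))) =
        (hG hD4 18 (c 0) * (hG hD4 13 (c 2) * hG hD4 12 (c 3))) * hG hD4 14 (c 1) := by group
    rw [e1]
    exact mul_mem h1 h3
  have hta : t ∈ chevD4.group k := diagonal_le_group hD4 k ht
  have e' : y = em q f ⟨a, ha⟩ * ⟨t, hta⟩ := Subtype.ext e
  refine mem_of_coprime hdp ?_ hyp
  rw [e']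
  refine pow_mem_of_pow (N := (em q f).range) ⟨_, rfl⟩ (fun c hc => ?_) ⟨⟨_, hmem⟩, Subtype.ext ?_⟩
  · obtain ⟨x, hx⟩ := hc
    have hn := EmbInst.twD4_normalizer (f := f) hq hK hΦ hta hσt
    obtain ⟨z, hz, hz'⟩ := (Subgroup.mem_normalizer_iff.1 hn (glMap chevD4 f (x : GL chevD4.Idx K))).1 ⟨x, x.2, rfl⟩
    refine ⟨⟨z, hz⟩, Subtype.ext ?_⟩
    rw [← hx]
    exact hz'
  · rw [Subgroup.coe_pow, coe_em]
    exact ht2.symm

end D4

end Cfsg.Agent.H153.Exc
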