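import Mathlib
import Cfsg.Prelude.Def_Classification2
import Cfsg.Agent.Mrg.Omega.Quasithin.Row.E27
import Cfsg.Agent.H318.Six

/-!
# Elements of order six in `Fi22`, `Fi23`, `Fi24'`, `B`, `M` (helper153)

In a group presented on a Coxeter diagram of type `Y_pqr`, the product of two joined nodes has order three and
commutes with the product of two nodes at distance two, both not joined to them.
-/

set_option autoImplicit false
set_option maxRecDepth 10000

namespace Cfsg.Agent.H153.SixCox

open Cfsg.Spor Cfsg.Agent.Omega.Quasithin.Row.E27 Cfsg.Agent.Omega.Quasithin.Row.Cox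

section

variable {α : Type*} [DecidableEq α] {edges : List (α × ℕ × α)} {extra : List (FreeGroup α)}

/-- the commuting pair of elements of order two and three -/
structure Pair (p q r s : α) : Prop where
  comm : (PresentedGroup.of r * PresentedGroup.of s) * (PresentedGroup.of p * PresentedGroup.of q) =
    (PresentedGroup.of p * PresentedGroup.of q) *
      ((PresentedGroup.of r : CoxPresented α edges extra) * PresentedGroup.of s)
  ne_x : (PresentedGroup.of r : CoxPresented α edges extra) * PresentedGroup.of s ≠ 1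
  sq_x : (PresentedGroup.of r * PresentedGroup.of s) *
    ((PresentedGroup.of r : CoxPresented α edges extra) * PresentedGroup.of s) = 1
  ne_y : (PresentedGroup.of p : CoxPresented α edges extra) * PresentedGroup.of q ≠ 1
  cube_y : (PresentedGroup.of p * PresentedGroup.of q) * (PresentedGroup.of p * PresentedGroup.of q) *
    ((PresentedGroup.of p : CoxPresented α edges extra) * PresentedGroup.of q) = 1
  mem_x : (PresentedGroup.of r : CoxPresented α edges extra) * PresentedGroup.of s ∈
    commutator (CoxPresented α edges extra)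
  mem_y : (PresentedGroup.of p : CoxPresented α edges extra) * PresentedGroup.of q ∈
    commutator (CoxPresented α edges extra)

theorem pair_of_cox (hn : ∀ x : α, x ∈ coxNodes edges)
    (hcard : ¬ ∀ a b : CoxPresented α edges extra, a * b = b * a) (p q r u s w : α)
    (e : coxLabel edges p q = 3 ∧ coxLabel edges r u = 3 ∧ coxLabel edges u s = 3 ∧ coxLabel edges w r = 3)
    (c : coxLabel edges r s = 2 ∧ coxLabel edges s w = 2 ∧ coxLabel edges r p = 2 ∧ coxLabel edges r q = 2 ∧
      coxLabel edges s p = 2 ∧ coxLabel edges s q = 2)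
    (l₁ l₂ : List (α × α × α)) (h₁ : ∀ x, x ∈ walk edges [p, q] l₁) (h₂ : ∀ x, x ∈ walk edges [w, r] l₂) :
    Pair (edges := edges) (extra := extra) p q r s := by
  obtain ⟨e1, e2, e3, e4⟩ := e
  obtain ⟨c1, c2, c3, c4, c5, c6⟩ := c
  have sq : ∀ x, (PresentedGroup.of x : CoxPresented α edges extra) * PresentedGroup.of x = 1 := fun x => cox_sq (hn x)
  have rs := cox_comm (extra := extra) (hn r) (hn s) c1
  have rp := cox_comm (extra := extra) (hn r) (hn p) c3
  have rq := cox_comm (extra := extra) (hn r) (hn q) c4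
  have sp := cox_comm (extra := extra) (hn s) (hn p) c5
  have sq' := cox_comm (extra := extra) (hn s) (hn q) c6
  have inv : ∀ x, (PresentedGroup.of x : CoxPresented α edges extra)⁻¹ = PresentedGroup.of x :=
    fun x => inv_eq_of_mul_eq_one_left (sq x)
  have C1 : Commute (PresentedGroup.of r : CoxPresented α edges extra) (PresentedGroup.of p * PresentedGroup.of q) :=
    Commute.mul_right rp rq
  have C2 : Commute (PresentedGroup.of s : CoxPresented α edges extra) (PresentedGroup.of p * PresentedGroup.of q) :=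
    Commute.mul_right sp sq'
  refine ⟨C1.mul_left C2, ?_, ?_, ?_, ?_, ?_, ?_⟩
  · intro h
    have h1 : (PresentedGroup.of s : CoxPresented α edges extra) = PresentedGroup.of r := by
      rw [← inv r]; exact eq_inv_of_mul_eq_one_right h
    have h2 := step (P := (PresentedGroup.of s : CoxPresented α edges extra)) (Q := PresentedGroup.of r)
      (R := PresentedGroup.of w) (sq w) h1 (by
        have h3 := cox_three (extra := extra) (hn w) (hn r) e4
        have h4 : ((PresentedGroup.of w : CoxPresented α edges extra) * PresentedGroup.of r)⁻¹ =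
            PresentedGroup.of r * PresentedGroup.of w := by rw [mul_inv_rev, inv, inv]
        rw [← h4, inv_pow, h3, inv_one]) (cox_comm (hn s) (hn w) c2) (sq r)
    exact ne_of_walk hn hcard _ _ l₂ h₂ h2.symm
  · calc (PresentedGroup.of r * PresentedGroup.of s) *
        ((PresentedGroup.of r : CoxPresented α edges extra) * PresentedGroup.of s) =
        PresentedGroup.of r * (PresentedGroup.of s * PresentedGroup.of r) * PresentedGroup.of s := by group
      _ = (PresentedGroup.of r * PresentedGroup.of r) * (PresentedGroup.of s * PresentedGroup.of s) := by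
        rw [← rs]; group
      _ = 1 := by rw [sq, sq, one_mul]
  · intro h
    refine ne_of_walk hn hcard p q l₁ h₁ ?_
    rw [← inv q]; exact eq_inv_of_mul_eq_one_left h
  · have h := cox_three (extra := extra) (hn p) (hn q) e1
    rw [← h, pow_succ, pow_two]
  · have h1 := mul_mem_commutator (sq r) (sq u) (cox_three (extra := extra) (hn r) (hn u) e2)
    have h2 := mul_mem_commutator (sq u) (sq s) (cox_three (extra := extra) (hn u) (hn s) e3)
    have h3 := mul_mem h1 h2
    have h4 : (PresentedGroup.of r : CoxPresented α edges extra) * PresentedGroup.of u *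
        (PresentedGroup.of u * PresentedGroup.of s) = PresentedGroup.of r * PresentedGroup.of s := by
      rw [mul_assoc, ← mul_assoc (PresentedGroup.of u), sq, one_mul]
    rwa [h4] at h3
  · exact mul_mem_commutator (sq p) (sq q) (cox_three (hn p) (hn q) e1)

theorem Pair.six {p q r s : α} (h : Pair (edges := edges) (extra := extra) p q r s) :
    H318.Six (CoxPresented α edges extra) :=
  ⟨_, _, h.comm, h.ne_x, h.sq_x, h.ne_y, h.cube_y⟩

/-- in a subgroup containing the two elements -/
theorem Pair.six_sub {p q r s : α} (h : Pair (edges := edges) (extra := extra) p q r s)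
    {K : Subgroup (CoxPresented α edges extra)}
    (hx : (PresentedGroup.of r : CoxPresented α edges extra) * PresentedGroup.of s ∈ K)
    (hy : (PresentedGroup.of p : CoxPresented α edges extra) * PresentedGroup.of q ∈ K) : H318.Six K :=
  ⟨⟨_, hx⟩, ⟨_, hy⟩, Subtype.ext h.comm, fun h1 => h.ne_x (congrArg Subtype.val h1), Subtype.ext h.sq_x,
    fun h1 => h.ne_y (congrArg Subtype.val h1), Subtype.ext h.cube_y⟩

end

theorem Fi22_pair (hcard : ¬ ∀ a b : Fi22, a * b = b * a) : Pair (α := Fi22.Gen) (edges := Fi22.edges) (extra := Fi22.extra)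
    .a .b .e .g :=
  pair_of_cox nodes_Fi22 hcard .a .b .e .f .g .d (by decide) (by decide)
    [(.a, .b, .c), (.a, .c, .d), (.a, .d, .e), (.a, .d, .h), (.a, .e, .f), (.a, .h, .i), (.a, .f, .g)]
    [(.e, .d, .c), (.e, .d, .h), (.d, .e, .f), (.d, .c, .b), (.d, .h, .i), (.d, .f, .g), (.d, .b, .a)]
    (fun x => by cases x <;> decide) (fun x => by cases x <;> decide)

theorem Fi23_pair (hcard : ¬ ∀ a b : Fi23, a * b = b * a) : Pair (α := Fi23.Gen) (edges := Fi23.edges) (extra := Fi23.extra)
    .a .b .e .g :=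
  pair_of_cox nodes_Fi23 hcard .a .b .e .f .g .d (by decide) (by decide)
    [(.a, .b, .c), (.a, .c, .d), (.a, .d, .e), (.a, .d, .h), (.a, .e, .f), (.a, .h, .i), (.a, .f, .g), (.a, .g, .j)]
    [(.e, .d, .c), (.e, .d, .h), (.d, .e, .f), (.d, .c, .b), (.d, .h, .i), (.d, .f, .g), (.d, .b, .a), (.d, .g, .j)]
    (fun x => by cases x <;> decide) (fun x => by cases x <;> decide)

theorem Fi24_pair (hcard : ¬ ∀ a b : Fi24, a * b = b * a) : Pair (α := Fi24.Gen) (edges := Fi24.edges) (extra := Fi24.extra)
    .a .b .e .g :=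
  pair_of_cox nodes_Fi24 hcard .a .b .e .f .g .d (by decide) (by decide)
    [(.b, .a, .k), (.a, .b, .c), (.a, .k, .l), (.a, .c, .d), (.a, .d, .e), (.a, .d, .h), (.a, .e, .f), (.a, .h, .i), (.a, .f, .g), (.a, .g, .j)]
    [(.e, .d, .c), (.e, .d, .h), (.d, .e, .f), (.d, .c, .b), (.d, .h, .i), (.d, .f, .g), (.d, .b, .a), (.d, .g, .j), (.d, .a, .k), (.d, .k, .l)]
    (fun x => by cases x <;> decide) (fun x => by cases x <;> decide)

theorem BabyMonster_pair (hcard : ¬ ∀ a b : BabyMonster, a * b = b * a) : Pair (α := BabyMonster.Gen) (edges := BabyMonster.edges) (extra := BabyMonster.extra)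
    .t1 .t2 .t6 .t8 :=
  pair_of_cox nodes_BabyMonster hcard .t1 .t2 .t6 .t7 .t8 .t5 (by decide) (by decide)
    [(.t1, .t2, .t3), (.t1, .t3, .t4), (.t1, .t4, .t5), (.t1, .t5, .t6), (.t1, .t5, .t9), (.t1, .t6, .t7), (.t1, .t9, .t10), (.t1, .t7, .t8), (.t1, .t10, .t11)]
    [(.t6, .t5, .t4), (.t6, .t5, .t9), (.t5, .t6, .t7), (.t5, .t4, .t3), (.t5, .t9, .t10), (.t5, .t7, .t8), (.t5, .t3, .t2), (.t5, .t10, .t11), (.t5, .t2, .t1)]
    (fun x => by cases x <;> decide) (fun x => by cases x <;> decide)

theorem Bimonster_pair (hcard : ¬ ∀ a b : Bimonster, a * b = b * a) : Pair (α := Bimonster.Gen) (edges := Bimonster.edges) (extra := Bimonster.extra)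
    .c1 .d1 .c2 .e2 :=
  pair_of_cox nodes_Bimonster hcard .c1 .d1 .c2 .d2 .e2 .b2 (by decide) (by decide)
    [(.d1, .c1, .b1), (.c1, .d1, .e1), (.c1, .b1, .a), (.c1, .e1, .f1), (.c1, .a, .b2), (.c1, .a, .b3), (.c1, .b2, .c2), (.c1, .b3, .c3), (.c1, .c2, .d2), (.c1, .c3, .d3), (.c1, .d2, .e2), (.c1, .d3, .e3), (.c1, .e2, .f2), (.c1, .e3, .f3)]
    [(.c2, .b2, .a), (.b2, .c2, .d2), (.b2, .a, .b1), (.b2, .a, .b3), (.b2, .d2, .e2), (.b2, .b1, .c1), (.b2, .b3, .c3), (.b2, .e2, .f2), (.b2, .c1, .d1), (.b2, .c3, .d3), (.b2, .d1, .e1), (.b2, .d3, .e3), (.b2, .e1, .f1), (.b2, .e3, .f3)]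
    (fun x => by cases x <;> decide) (fun x => by cases x <;> decide)


/-! ### the groups -/

theorem comm_of_le {G : Type*} [Group G] {K : Subgroup G} (h : ∀ a b : G, a * b = b * a) (a b : K) : a * b = b * a :=
  Subtype.ext (h a b)

theorem fi22 (hna : ¬ ∀ a b : Fi22, a * b = b * a) : H318.Six Fi22 := (Fi22_pair hna).six

theorem fi23 (hna : ¬ ∀ a b : Fi23, a * b = b * a) : H318.Six Fi23 := (Fi23_pair hna).six

theorem b (hna : ¬ ∀ a b : BabyMonster, a * b = b * a) : H318.Six BabyMonster := (BabyMonster_pair hna).six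

theorem fi24' (hna : ¬ ∀ a b : Fi24', a * b = b * a) : H318.Six Fi24' := by
  have h := Fi24_pair fun h => hna (comm_of_le h)
  exact h.six_sub h.mem_x h.mem_y

theorem m (hna : ¬ ∀ a b : Monster, a * b = b * a) : H318.Six Monster := by
  have h := Bimonster_pair fun h => hna (comm_of_le h)
  have hc : ∀ x : Bimonster.Gen, coxLabel Bimonster.edges x .a = 2 → (PresentedGroup.of x : Bimonster) ∈
      Subgroup.centralizer {(PresentedGroup.of Bimonster.Gen.a : Bimonster)} := fun x hx =>
    Subgroup.mem_centralizer_singleton_iff.2 (cox_comm (nodes_Bimonster x) (nodes_Bimonster _) hx)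
  exact h.six_sub ⟨mul_mem (hc _ (by decide)) (hc _ (by decide)), h.mem_x⟩
    ⟨mul_mem (hc _ (by decide)) (hc _ (by decide)), h.mem_y⟩

end Cfsg.Agent.H153.SixCox
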