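import Mathlib
import Cfsg.Prelude.Def_Spor_Mathieu
import Cfsg.Prelude.Def_Spor_Conway
import Cfsg.Agent.Golay.Orbit
import Cfsg.Agent.SporadicA.Co0Basic
import Cfsg.Agent.H318.Six

/-!
# Elements of order six in the Mathieu and Conway groups, `McL` and `HS` (helper153)

One permutation of order six of the 24 points preserving the code, fixing two points and the dodecad of squares does it
for `M11`, `M12`, `M22`, `M23`, `M24`; as a coordinate permutation of the lattice it does it for `McL`, `HS`, `Co3`,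
`Co2`, `Co1`.
-/

set_option autoImplicit false

namespace Cfsg.Agent.H153.SixMathieu

open Cfsg.Agent.Golay.Orbit Cfsg.Agent.SporadicA.Co0Basic
open scoped Pointwise

/-- the table of the involution -/
def xt : List ℕ := [1, 2, 64, 65536, 256, 32768, 4, 128, 16, 262144, 4194304, 131072, 4096, 8192, 16384, 32, 8, 2048,
  512, 2097152, 1048576, 524288, 1024, 8388608]

/-- the table of the element of order three -/
def yt : List ℕ := [1, 4096, 512, 4, 16, 4194304, 262144, 1048576, 256, 8, 2048, 32768, 8192, 2, 128, 1024, 64, 32,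
  65536, 524288, 16384, 2097152, 131072, 8388608]

/-- the map with a given table -/
def tf (l : List ℕ) (q : GolayPt) : GolayPt := pt (Nat.log2 (l.getD (idx q) 0))

theorem Rep.apply {g : Equiv.Perm GolayPt} {l : List ℕ} (h : Rep g l) (q : GolayPt) : g q = tf l q := by
  unfold tf
  rw [h.eq, Nat.log2_two_pow, pt_idx]

theorem fix_dodecad {g : Equiv.Perm GolayPt} {l : List ℕ} (h : Rep g l) (hl : act l (qmask 0) = qmask 0) :
    g • Spor.squareDodecad = Spor.squareDodecad := by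
  have h1 : Spor.squareDodecad = fin (qmask 0) := by
    have h2 := qrWord_eq 0
    unfold Spor.squareDodecad
    rw [h2, support_word]
    rfl
  rw [h1, h.smul_fin, hl]

/-- the two commuting permutations -/
theorem exists_pair : ∃ x y : Equiv.Perm GolayPt, x * y = y * x ∧ x * x = 1 ∧ y * y * y = 1 ∧
    x (some 2) = some 6 ∧ y (some 1) = some 12 ∧ x ∈ M24 ∧ y ∈ M24 ∧
    (x none = none ∧ y none = none) ∧ (x (some 0) = some 0 ∧ y (some 0) = some 0) ∧
    (x • Spor.squareDodecad = Spor.squareDodecad ∧ y • Spor.squareDodecad = Spor.squareDodecad) := by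
  obtain ⟨x, hx⟩ := exists_rep xt (by decide +kernel)
  obtain ⟨y, hy⟩ := exists_rep yt (by decide +kernel)
  refine ⟨x, y, ?_, ?_, ?_, ?_, ?_, hx.mem_M24 (by decide +kernel), hy.mem_M24 (by decide +kernel), ⟨?_, ?_⟩,
    ⟨?_, ?_⟩, fix_dodecad hx (by decide +kernel), fix_dodecad hy (by decide +kernel)⟩
  · have h : ∀ q, tf xt (tf yt q) = tf yt (tf xt q) := by decide +kernel
    ext1 q
    rw [Equiv.Perm.mul_apply, Equiv.Perm.mul_apply, Rep.apply hx, Rep.apply hy, Rep.apply hy, Rep.apply hx, h]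
  · have h : ∀ q, tf xt (tf xt q) = q := by decide +kernel
    ext1 q
    rw [Equiv.Perm.mul_apply, Rep.apply hx, Rep.apply hx, h, Equiv.Perm.one_apply]
  · have h : ∀ q, tf yt (tf yt (tf yt q)) = q := by decide +kernel
    ext1 q
    rw [Equiv.Perm.mul_apply, Equiv.Perm.mul_apply, Rep.apply hy, Rep.apply hy, Rep.apply hy, h,
      Equiv.Perm.one_apply]
  · rw [Rep.apply hx]; decide +kernel
  · rw [Rep.apply hy]; decide +kernel
  · rw [Rep.apply hx]; decide +kernel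
  · rw [Rep.apply hy]; decide +kernel
  · rw [Rep.apply hx]; decide +kernel
  · rw [Rep.apply hy]; decide +kernel

theorem six_of_pair {K : Subgroup (Equiv.Perm GolayPt)} {x y : Equiv.Perm GolayPt} (hx : x ∈ K) (hy : y ∈ K)
    (hxy : x * y = y * x) (hx2 : x * x = 1) (hy3 : y * y * y = 1) (hx1 : x (some 2) = some 6)
    (hy1 : y (some 1) = some 12) : H318.Six K := by
  refine ⟨⟨x, hx⟩, ⟨y, hy⟩, Subtype.ext hxy, ?_, Subtype.ext hx2, ?_, Subtype.ext hy3⟩
  · intro h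
    have h1 : x = 1 := congrArg Subtype.val h
    rw [h1, Equiv.Perm.one_apply] at hx1
    revert hx1
    decide
  · intro h
    have h1 : y = 1 := congrArg Subtype.val h
    rw [h1, Equiv.Perm.one_apply] at hy1
    revert hy1
    decide

theorem m11 : H318.Six Spor.M11 := by
  obtain ⟨x, y, hxy, hx2, hy3, hx1, hy1, hxm, hym, ⟨hxn, hyn⟩, ⟨hx0, hy0⟩, ⟨hxd, hyd⟩⟩ := exists_pair
  exact six_of_pair ⟨⟨hxm, hxd⟩, hx0⟩ ⟨⟨hym, hyd⟩, hy0⟩ hxy hx2 hy3 hx1 hy1

theorem m12 : H318.Six Spor.M12 := by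
  obtain ⟨x, y, hxy, hx2, hy3, hx1, hy1, hxm, hym, ⟨hxn, hyn⟩, ⟨hx0, hy0⟩, ⟨hxd, hyd⟩⟩ := exists_pair
  exact six_of_pair ⟨hxm, hxd⟩ ⟨hym, hyd⟩ hxy hx2 hy3 hx1 hy1

theorem m22 : H318.Six Spor.M22 := by
  obtain ⟨x, y, hxy, hx2, hy3, hx1, hy1, hxm, hym, ⟨hxn, hyn⟩, ⟨hx0, hy0⟩, ⟨hxd, hyd⟩⟩ := exists_pair
  exact six_of_pair ⟨⟨hxm, hxn⟩, hx0⟩ ⟨⟨hym, hyn⟩, hy0⟩ hxy hx2 hy3 hx1 hy1

theorem m23 : H318.Six Spor.M23 := by
  obtain ⟨x, y, hxy, hx2, hy3, hx1, hy1, hxm, hym, ⟨hxn, hyn⟩, ⟨hx0, hy0⟩, ⟨hxd, hyd⟩⟩ := exists_pair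
  exact six_of_pair ⟨hxm, hxn⟩ ⟨hym, hyn⟩ hxy hx2 hy3 hx1 hy1

theorem m24 : H318.Six M24 := by
  obtain ⟨x, y, hxy, hx2, hy3, hx1, hy1, hxm, hym, -⟩ := exists_pair
  exact six_of_pair hxm hym hxy hx2 hy3 hx1 hy1

/-! ### the lattice -/

/-- the coordinate permutations -/
noncomputable def ph : M24 →* Co0 where
  toFun σ := permCo0 σ.1 σ.2
  map_one' := rfl
  map_mul' σ τ := by
    apply Subtype.ext
    ext1 v
    apply Subtype.ext
    funext i
    show (v : GolayPt → ℤ) ((σ.1 * τ.1)⁻¹ i) = (v : GolayPt → ℤ) (τ.1⁻¹ (σ.1⁻¹ i))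
    rw [mul_inv_rev, Equiv.Perm.mul_apply]

theorem ph_e8 (σ : M24) (i : GolayPt) : (ph σ).1 (e8 i) = e8 (σ.1 i) := permCo0_e8 σ.1 σ.2 i

theorem e8_inj {i j : GolayPt} (h : e8 i = e8 j) : i = j := by
  by_contra hne
  have h1 := congrArg (fun u : leechLattice => (u : GolayPt → ℤ) i) h
  simp only [e8_apply, if_true, if_neg hne] at h1
  omega

theorem ph_inj : Function.Injective ph := by
  intro σ τ h
  apply Subtype.ext
  ext1 i
  apply e8_inj
  rw [← ph_e8, ← ph_e8, h]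

/-- fixing a vector -/
theorem ph_fix (σ : M24) (v : leechLattice) (h : ∀ i, (v : GolayPt → ℤ) (σ.1 i) = (v : GolayPt → ℤ) i) :
    (ph σ).1 • v = v := by
  apply Subtype.ext
  funext i
  show (v : GolayPt → ℤ) (σ.1⁻¹ i) = (v : GolayPt → ℤ) i
  rw [← h (σ.1⁻¹ i)]
  exact congrArg (v : GolayPt → ℤ) (σ.1.apply_symm_apply i)

/-- the two commuting permutations, in the lattice group -/
theorem exists_pair' : ∃ x y : M24, x * y = y * x ∧ x * x = 1 ∧ y * y * y = 1 ∧ x ≠ 1 ∧ y ≠ 1 ∧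
    (x.1 none = none ∧ y.1 none = none) ∧ (x.1 (some 0) = some 0 ∧ y.1 (some 0) = some 0) ∧
    (x.1 (some 2) = some 6 ∧ y.1 (some 1) = some 12) := by
  obtain ⟨x, y, hxy, hx2, hy3, hx1, hy1, hxm, hym, ⟨hxn, hyn⟩, ⟨hx0, hy0⟩, -⟩ := exists_pair
  refine ⟨⟨x, hxm⟩, ⟨y, hym⟩, Subtype.ext hxy, Subtype.ext hx2, Subtype.ext hy3, ?_, ?_, ⟨hxn, hyn⟩, ⟨hx0, hy0⟩,
    ⟨hx1, hy1⟩⟩
  · intro h
    have h1 : x = 1 := congrArg Subtype.val h
    rw [h1, Equiv.Perm.one_apply] at hx1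
    revert hx1
    decide
  · intro h
    have h1 : y = 1 := congrArg Subtype.val h
    rw [h1, Equiv.Perm.one_apply] at hy1
    revert hy1
    decide

/-- a stabiliser in `Co0` of vectors whose coordinates are constant away from the two fixed points -/
theorem six_stab {K : Subgroup (Equiv.Perm leechLattice)}
    (hK : ∀ σ : M24, σ.1 none = none → σ.1 (some 0) = some 0 → (ph σ).1 ∈ K) : H318.Six K := by
  obtain ⟨x, y, hxy, hx2, hy3, hx1, hy1, ⟨hxn, hyn⟩, ⟨hx0, hy0⟩, -⟩ := exists_pair'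
  refine ⟨⟨(ph x).1, hK x hxn hx0⟩, ⟨(ph y).1, hK y hyn hy0⟩, ?_, ?_, ?_, ?_, ?_⟩
  · apply Subtype.ext
    show (ph x).1 * (ph y).1 = (ph y).1 * (ph x).1
    rw [← Subgroup.coe_mul, ← Subgroup.coe_mul, ← map_mul, ← map_mul, hxy]
  · intro h
    have h1 : (ph x).1 = 1 := congrArg Subtype.val h
    exact hx1 (ph_inj (Subtype.ext (by rw [h1, map_one]; rfl)))
  · apply Subtype.ext
    show (ph x).1 * (ph x).1 = 1
    rw [← Subgroup.coe_mul, ← map_mul, hx2, map_one]; rfl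
  · intro h
    have h1 : (ph y).1 = 1 := congrArg Subtype.val h
    exact hy1 (ph_inj (Subtype.ext (by rw [h1, map_one]; rfl)))
  · apply Subtype.ext
    show (ph y).1 * (ph y).1 * (ph y).1 = 1
    rw [← Subgroup.coe_mul, ← Subgroup.coe_mul, ← map_mul, ← map_mul, hy3, map_one]; rfl

theorem fix_of {σ : M24} (hn : σ.1 none = none) (h0 : σ.1 (some 0) = some 0) (f : GolayPt → ℤ)
    (hf : ∀ p q, p ≠ none → p ≠ some 0 → q ≠ none → q ≠ some 0 → f p = f q) (i : GolayPt) : f (σ.1 i) = f i := by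
  by_cases h1 : i = none
  · rw [h1, hn]
  by_cases h2 : i = some 0
  · rw [h2, h0]
  refine hf _ _ ?_ ?_ h1 h2
  · intro h
    exact h1 (σ.1.injective (by rw [h, hn]))
  · intro h
    exact h2 (σ.1.injective (by rw [h, h0]))

theorem fixU {σ : M24} (hn : σ.1 none = none) (h0 : σ.1 (some 0) = some 0) : (ph σ).1 • Spor.leechU = Spor.leechU :=
  ph_fix σ _ (fix_of hn h0 Spor.vecU (fun p q h1 h2 h3 h4 => by unfold Spor.vecU; simp [h1, h2, h3, h4]))

theorem fixV {σ : M24} (hn : σ.1 none = none) (h0 : σ.1 (some 0) = some 0) : (ph σ).1 • Spor.leechV = Spor.leechV :=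
  ph_fix σ _ (fix_of hn h0 Spor.vecV (fun p q h1 h2 h3 h4 => by unfold Spor.vecV; simp [h1, h3]))

theorem fixU' {σ : M24} (hn : σ.1 none = none) (h0 : σ.1 (some 0) = some 0) :
    (ph σ).1 • Spor.leechU' = Spor.leechU' :=
  ph_fix σ _ (fix_of hn h0 Spor.vecU' (fun p q h1 h2 h3 h4 => by unfold Spor.vecU'; simp [h1, h2, h3, h4]))

theorem co2 : H318.Six Spor.Co2 := six_stab fun σ hn h0 => ⟨(ph σ).2, fixU hn h0⟩

theorem co3 : H318.Six Spor.Co3 := six_stab fun σ hn h0 => ⟨(ph σ).2, fixV hn h0⟩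

theorem mcl : H318.Six Spor.McL := six_stab fun σ hn h0 => ⟨⟨(ph σ).2, fixV hn h0⟩, fixU hn h0⟩

theorem hs : H318.Six Spor.HS := six_stab fun σ hn h0 => ⟨⟨(ph σ).2, fixV hn h0⟩, fixU' hn h0⟩

/-- an element commuting with the shift -/
theorem not_central {σ : M24} (h0 : σ.1 (some 0) = some 0) (hne : σ ≠ 1) (hn : σ.1 none = none) :
    ph σ ∉ Subgroup.center Co0 := by
  intro h
  apply hne
  have h1 := Subgroup.mem_center_iff.1 h (ph ⟨tau, tau_mem⟩)
  rw [← map_mul, ← map_mul] at h1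
  have h2 := congrArg Subtype.val (ph_inj h1)
  have h3 : ∀ i, tau (σ.1 i) = σ.1 (tau i) := fun i => congrArg (fun f : Equiv.Perm GolayPt => f i) h2
  have h4 : ∀ n : ℕ, σ.1 (some (n : ZMod 23)) = some (n : ZMod 23) := by
    intro n
    induction n with
    | zero => exact_mod_cast h0
    | succ n ih =>
      have h5 := h3 (some (n : ZMod 23))
      have h6 : tau (some (n : ZMod 23)) = some ((n + 1 : ℕ) : ZMod 23) := by
        push_cast
        rfl
      rw [ih, h6] at h5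
      exact h5.symm
  apply Subtype.ext
  ext1 i
  cases i with
  | none => exact hn
  | some a =>
    have h5 := h4 a.val
    rw [ZMod.natCast_zmod_val] at h5
    exact h5

theorem co1 : H318.Six Spor.Co1 := by
  obtain ⟨x, y, hxy, hx2, hy3, hx1, hy1, ⟨hxn, hyn⟩, ⟨hx0, hy0⟩, -⟩ := exists_pair'
  refine H318.Six.map ((QuotientGroup.mk' (Subgroup.center Co0)).comp ph) hxy hx2 hy3 ?_ ?_
  · intro h
    exact not_central hx0 hx1 hxn ((QuotientGroup.eq_one_iff _).1 h)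
  · intro h
    exact not_central hy0 hy1 hyn ((QuotientGroup.eq_one_iff _).1 h)

end Cfsg.Agent.H153.SixMathieu
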