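import Mathlib
import Cfsg.Prelude.Def_Classical
import Cfsg.Prelude.Def_LieTypeChar
import Cfsg.Agent.H318.Six

/-!
# Elements of order six in the even-characteristic orthogonal groups (helper153)

For a field of characteristic two, `PΩ⁺_{2m}(F)` and `PΩ⁻_{2m}(F)`, `m ≥ 4`, have commuting elements of
order two and three: a Siegel element and a Levi element of a six-dimensional hyperbolic subspace.
-/

set_option autoImplicit false

namespace Cfsg.Agent.H153.SixOmega

open Matrix
open scoped commutatorElement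

section Ext

variable {ι κ α : Type} [Fintype ι] [DecidableEq ι] [Fintype κ] [DecidableEq κ] [Fintype α]
  [DecidableEq α] {F : Type*} [Field F]

/-- extension by the identity, as a monoid homomorphism of matrices -/
def extM (e : α ⊕ κ ≃ ι) : Matrix α α F →* Matrix ι ι F where
  toFun g := Matrix.reindex e e (Matrix.fromBlocks g 0 0 1)
  map_one' := by
    rw [Matrix.fromBlocks_one]
    simp
  map_mul' g h := by
    simp only [Matrix.reindex_apply]
    rw [Matrix.submatrix_mul_equiv, Matrix.fromBlocks_multiply]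
    simp

theorem extM_mulVec (e : α ⊕ κ ≃ ι) (g : Matrix α α F) (v : ι → F) :
    extM e g *ᵥ v = (Sum.elim (g *ᵥ (v ∘ e ∘ Sum.inl)) (v ∘ e ∘ Sum.inr)) ∘ e.symm := by
  show (Matrix.reindex e e (Matrix.fromBlocks g 0 0 1)) *ᵥ v = _
  rw [Matrix.reindex_apply, Matrix.submatrix_mulVec_equiv, Equiv.symm_symm, Matrix.fromBlocks_mulVec]
  simp [Function.comp_assoc]

theorem extM_injective (e : α ⊕ κ ≃ ι) : Function.Injective (extM e : Matrix α α F → Matrix ι ι F) := by
  intro g h hgh
  have h1 : Matrix.fromBlocks g (0 : Matrix α κ F) 0 (1 : Matrix κ κ F) = Matrix.fromBlocks h 0 0 1 :=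
    (Matrix.reindex e e).injective hgh
  exact (Matrix.fromBlocks_inj.1 h1).1

/-- extension by the identity of isometries -/
def extIso (e : α ⊕ κ ≃ ι) (Q₁ : (α → F) → F) (Q : (ι → F) → F) (R : (κ → F) → F)
    (hQ : ∀ v, Q v = Q₁ (v ∘ e ∘ Sum.inl) + R (v ∘ e ∘ Sum.inr)) :
    isometryGroup F Q₁ →* isometryGroup F Q :=
  ((Units.map (extM e)).comp (isometryGroup F Q₁).subtype).codRestrict _ (by
    rintro ⟨g, hg⟩ u v
    show Q (extM e (g : Matrix α α F) *ᵥ u) = Q u
    rw [hQ, hQ u, extM_mulVec]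
    have h1 : (Sum.elim ((g : Matrix α α F) *ᵥ (u ∘ e ∘ Sum.inl)) (u ∘ e ∘ Sum.inr) ∘ e.symm) ∘ e ∘ Sum.inl =
        (g : Matrix α α F) *ᵥ (u ∘ e ∘ Sum.inl) := by
      ext i; simp
    have h2 : (Sum.elim ((g : Matrix α α F) *ᵥ (u ∘ e ∘ Sum.inl)) (u ∘ e ∘ Sum.inr) ∘ e.symm) ∘ e ∘ Sum.inr =
        u ∘ e ∘ Sum.inr := by
      ext i; simp
    rw [h1, h2]
    congr 1
    exact hg (u ∘ e ∘ Sum.inl) 0)

theorem extIso_injective (e : α ⊕ κ ≃ ι) (Q₁ : (α → F) → F) (Q : (ι → F) → F) (R : (κ → F) → F)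
    (hQ : ∀ v, Q v = Q₁ (v ∘ e ∘ Sum.inl) + R (v ∘ e ∘ Sum.inr)) :
    Function.Injective (extIso e Q₁ Q R hQ) := by
  rintro ⟨g, hg⟩ ⟨h, hh⟩ hgh
  apply Subtype.ext
  apply Units.ext
  apply extM_injective e
  exact congrArg (fun x : isometryGroup F Q => ((x : Matrix.GeneralLinearGroup ι F) : Matrix ι ι F)) hgh

end Ext

/-! ### The abstract criterion -/

section Crit

variable {H G : Type*} [Group H] [Group G]

theorem hom_mem_commutator (f : H →* G) {g : H} (hg : g ∈ commutator H) : f g ∈ commutator G := by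
  have h1 : (commutator H).map f ≤ commutator G := by
    rw [commutator_def, commutator_def, Subgroup.map_commutator]
    exact Subgroup.commutator_mono le_top le_top
  exact h1 (Subgroup.mem_map_of_mem f hg)

/-- commuting elements of order two and three in the commutator subgroup of `H`, neither of which is centralized
by a third element, give commuting elements of order two and three in `G'/Z(G')` for every `G` into which `H`
embeds -/
theorem six_of_injective (f : H →* G) (hf : Function.Injective f) {t y w : H} (ht : t ∈ commutator H)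
    (hy : y ∈ commutator H) (hw : w ∈ commutator H) (hty : t * y = y * t) (ht2 : t * t = 1)
    (hy3 : y * y * y = 1) (hwt : w * t ≠ t * w) (hwy : w * y ≠ y * w) :
    H318.Six (commutator G ⧸ Subgroup.center (commutator G)) := by
  have key : ∀ z : H, ∀ hz : z ∈ commutator H, w * z ≠ z * w →
      (QuotientGroup.mk' (Subgroup.center (commutator G))) ⟨f z, hom_mem_commutator f hz⟩ ≠ 1 := by
    intro z hz hne h1
    have h2 := (QuotientGroup.eq_one_iff _).1 h1
    have h3 := congrArg Subtype.val ((Subgroup.mem_center_iff.1 h2) ⟨f w, hom_mem_commutator f hw⟩)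
    apply hne
    apply hf
    rw [map_mul, map_mul]
    exact h3
  refine H318.Six.map (QuotientGroup.mk' (Subgroup.center (commutator G)))
    (x := ⟨f t, hom_mem_commutator f ht⟩) (y := ⟨f y, hom_mem_commutator f hy⟩) ?_ ?_ ?_ (key t ht hwt)
    (key y hy hwy)
  · apply Subtype.ext
    show f t * f y = f y * f t
    rw [← map_mul, hty, map_mul]
  · apply Subtype.ext
    show f t * f t = 1
    rw [← map_mul, ht2, map_one]
  · apply Subtype.ext
    show f y * f y * f y = 1
    rw [← map_mul, ← map_mul, hy3, map_one]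

end Crit

/-! ### The six-dimensional hyperbolic group -/

section Hyp

variable (F : Type*) [Field F]

/-- the isometry group of the sum of three hyperbolic planes -/
abbrev H6 : Subgroup (GeneralLinearGroup (Fin 3 ⊕ Fin 3) F) := isometryGroup F (quadFormPlus 3 F)

variable {F}

theorem quadFormPlus_eq (v : Fin 3 ⊕ Fin 3 → F) :
    quadFormPlus 3 F v = (v ∘ Sum.inl) ⬝ᵥ (v ∘ Sum.inr) := rfl

/-- the Levi elements -/
def lev (A B : Matrix (Fin 3) (Fin 3) F) (h1 : A * B = 1) (h2 : B * A = 1) : H6 F :=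
  ⟨⟨fromBlocks A 0 0 Bᵀ, fromBlocks B 0 0 Aᵀ,
    by rw [fromBlocks_multiply]; simp [h1, ← transpose_mul],
    by rw [fromBlocks_multiply]; simp [h2, ← transpose_mul]⟩,
    by
      intro v _
      show quadFormPlus 3 F (fromBlocks A 0 0 Bᵀ *ᵥ v) = quadFormPlus 3 F v
      rw [quadFormPlus_eq, quadFormPlus_eq, fromBlocks_mulVec, Sum.elim_comp_inl, Sum.elim_comp_inr,
        Matrix.zero_mulVec, Matrix.zero_mulVec, add_zero, zero_add, Matrix.mulVec_transpose,
        dotProduct_comm, ← Matrix.dotProduct_mulVec, Matrix.mulVec_mulVec, h2, Matrix.one_mulVec,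
        dotProduct_comm]⟩

/-- the Siegel elements -/
def sie (S : Matrix (Fin 3) (Fin 3) F) (h : ∀ v, v ⬝ᵥ (S *ᵥ v) = 0) : H6 F :=
  ⟨⟨fromBlocks 1 S 0 1, fromBlocks 1 (-S) 0 1,
    by rw [fromBlocks_multiply]; simp,
    by rw [fromBlocks_multiply]; simp⟩,
    by
      intro v _
      show quadFormPlus 3 F (fromBlocks 1 S 0 1 *ᵥ v) = quadFormPlus 3 F v
      rw [quadFormPlus_eq, quadFormPlus_eq, fromBlocks_mulVec, Sum.elim_comp_inl, Sum.elim_comp_inr,
        Matrix.zero_mulVec, Matrix.one_mulVec, Matrix.one_mulVec, zero_add, add_dotProduct,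
        dotProduct_comm (S *ᵥ _), h, add_zero]⟩

/-- the underlying matrix -/
def mat (x : H6 F) : Matrix (Fin 3 ⊕ Fin 3) (Fin 3 ⊕ Fin 3) F := x.1.1

theorem H6.ext {x y : H6 F} (h : mat x = mat y) : x = y :=
  Subtype.ext (Units.ext h)

theorem lev_mul {A B C D : Matrix (Fin 3) (Fin 3) F} (h1 : A * B = 1) (h2 : B * A = 1) (h3 : C * D = 1)
    (h4 : D * C = 1) : lev A B h1 h2 * lev C D h3 h4 =
      lev (A * C) (D * B) (by rw [Matrix.mul_assoc, ← Matrix.mul_assoc C, h3, Matrix.one_mul, h1])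
        (by rw [Matrix.mul_assoc, ← Matrix.mul_assoc B, h2, Matrix.one_mul, h4]) := by
  apply H6.ext
  show fromBlocks A 0 0 Bᵀ * fromBlocks C 0 0 Dᵀ = fromBlocks (A * C) 0 0 (D * B)ᵀ
  rw [fromBlocks_multiply]
  simp [transpose_mul]

theorem lev_inv {A B : Matrix (Fin 3) (Fin 3) F} (h1 : A * B = 1) (h2 : B * A = 1) :
    (lev A B h1 h2)⁻¹ = lev B A h2 h1 := by
  apply inv_eq_of_mul_eq_one_left
  rw [lev_mul]
  apply H6.ext
  show fromBlocks (B * A) 0 0 (B * A)ᵀ = 1
  rw [h2, transpose_one, fromBlocks_one]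

theorem sie_mul {S T : Matrix (Fin 3) (Fin 3) F} (hS : ∀ v, v ⬝ᵥ (S *ᵥ v) = 0)
    (hT : ∀ v, v ⬝ᵥ (T *ᵥ v) = 0) :
    sie S hS * sie T hT = sie (S + T) (by intro v; rw [Matrix.add_mulVec, dotProduct_add, hS, hT, add_zero]) := by
  apply H6.ext
  show fromBlocks 1 S 0 1 * fromBlocks 1 T 0 1 = fromBlocks 1 (S + T) 0 1
  rw [fromBlocks_multiply]
  simp [add_comm]

theorem lev_mul_sie {A B S T : Matrix (Fin 3) (Fin 3) F} (h1 : A * B = 1) (h2 : B * A = 1)
    (hS : ∀ v, v ⬝ᵥ (S *ᵥ v) = 0) (hT : ∀ v, v ⬝ᵥ (T *ᵥ v) = 0) (h : A * S = T * Bᵀ) :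
    lev A B h1 h2 * sie S hS = sie T hT * lev A B h1 h2 := by
  apply H6.ext
  show fromBlocks A 0 0 Bᵀ * fromBlocks 1 S 0 1 = fromBlocks 1 T 0 1 * fromBlocks A 0 0 Bᵀ
  rw [fromBlocks_multiply, fromBlocks_multiply]
  simp [h]

variable [CharP F 2]

set_option maxHeartbeats 4000000 in
/-- every group containing the isometry group of three hyperbolic planes over a field of characteristic two -/
theorem six_of_embedding {G : Type*} [Group G] (f : H6 F →* G) (hf : Function.Injective f) :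
    H318.Six (commutator G ⧸ Subgroup.center (commutator G)) := by
  have h11 : (1 : F) + 1 = 0 := CharTwo.add_self_eq_zero 1
  -- the order-three element of the Levi factor and its inverse
  let A : Matrix (Fin 3) (Fin 3) F := !![0, 1, 0; 1, 1, 0; 0, 0, 1]
  let B : Matrix (Fin 3) (Fin 3) F := !![1, 1, 0; 1, 0, 0; 0, 0, 1]
  let R : Matrix (Fin 3) (Fin 3) F := !![0, 1, 0; 1, 0, 0; 0, 0, 1]
  let A' : Matrix (Fin 3) (Fin 3) F := !![1, 0, 0; 0, 0, 1; 0, 1, 1]
  let B' : Matrix (Fin 3) (Fin 3) F := !![1, 0, 0; 0, 1, 1; 0, 1, 0]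
  let R' : Matrix (Fin 3) (Fin 3) F := !![1, 0, 0; 0, 0, 1; 0, 1, 0]
  let E : Matrix (Fin 3) (Fin 3) F := !![1, 0, 0; 0, 1, 1; 0, 0, 1]
  let S : Matrix (Fin 3) (Fin 3) F := !![0, 1, 0; 1, 0, 0; 0, 0, 0]
  let T : Matrix (Fin 3) (Fin 3) F := !![0, 0, 1; 0, 0, 0; 1, 0, 0]
  have hAB : A * B = 1 := by
    ext i j; fin_cases i <;> fin_cases j <;> simp [A, B, h11]
  have hBA : B * A = 1 := by
    ext i j; fin_cases i <;> fin_cases j <;> simp [A, B, h11]
  have hRR : R * R = 1 := by
    ext i j; fin_cases i <;> fin_cases j <;> simp [R]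
  have hAB' : A' * B' = 1 := by
    ext i j; fin_cases i <;> fin_cases j <;> simp [A', B', h11]
  have hBA' : B' * A' = 1 := by
    ext i j; fin_cases i <;> fin_cases j <;> simp [A', B', h11]
  have hRR' : R' * R' = 1 := by
    ext i j; fin_cases i <;> fin_cases j <;> simp [R']
  have hEE : E * E = 1 := by
    ext i j; fin_cases i <;> fin_cases j <;> simp [E, h11]
  have hS : ∀ v, v ⬝ᵥ (S *ᵥ v) = 0 := by
    intro v
    simp [S, Matrix.mulVec, dotProduct, Fin.sum_univ_succ]
    linear_combination (v 0 * v 1) * h11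
  have hT : ∀ v, v ⬝ᵥ (T *ᵥ v) = 0 := by
    intro v
    simp [T, Matrix.mulVec, dotProduct, Fin.sum_univ_succ]
    linear_combination (v 0 * v 2) * h11
  have hy : lev A B hAB hBA ∈ commutator (H6 F) := by
    have : lev A B hAB hBA = ⁅lev B A hBA hAB, lev R R hRR hRR⁆ := by
      rw [commutatorElement_def, lev_inv, lev_inv, lev_mul, lev_mul, lev_mul]
      apply H6.ext
      show fromBlocks A 0 0 Bᵀ = fromBlocks _ 0 0 _
      congr 1
      · ext i j; fin_cases i <;> fin_cases j <;> simp [A, B, R, h11]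
      · congr 1
        ext i j; fin_cases i <;> fin_cases j <;> simp [A, B, R, h11]
    rw [this]
    exact Subgroup.commutator_mem_commutator (Subgroup.mem_top _) (Subgroup.mem_top _)
  have hw : lev A' B' hAB' hBA' ∈ commutator (H6 F) := by
    have : lev A' B' hAB' hBA' = ⁅lev B' A' hBA' hAB', lev R' R' hRR' hRR'⁆ := by
      rw [commutatorElement_def, lev_inv, lev_inv, lev_mul, lev_mul, lev_mul]
      apply H6.ext
      show fromBlocks A' 0 0 B'ᵀ = fromBlocks _ 0 0 _
      congr 1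
      · ext i j; fin_cases i <;> fin_cases j <;> simp [A', B', R', h11]
      · congr 1
        ext i j; fin_cases i <;> fin_cases j <;> simp [A', B', R', h11]
    rw [this]
    exact Subgroup.commutator_mem_commutator (Subgroup.mem_top _) (Subgroup.mem_top _)
  have hTT : sie T hT * sie T hT = 1 := by
    rw [sie_mul]
    apply H6.ext
    show fromBlocks 1 (T + T) 0 1 = 1
    rw [← fromBlocks_one]
    congr 1
    ext i j; fin_cases i <;> fin_cases j <;> simp [T, h11]
  have hSS : sie S hS * sie S hS = 1 := by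
    rw [sie_mul]
    apply H6.ext
    show fromBlocks 1 (S + S) 0 1 = 1
    rw [← fromBlocks_one]
    congr 1
    ext i j; fin_cases i <;> fin_cases j <;> simp [S, h11]
  have ht : sie S hS ∈ commutator (H6 F) := by
    have h1 : lev E E hEE hEE * sie T hT = sie (S + T)
        (by intro v; rw [Matrix.add_mulVec, dotProduct_add, hS, hT, add_zero]) * lev E E hEE hEE := by
      apply lev_mul_sie
      ext i j; fin_cases i <;> fin_cases j <;> simp [S, T, E, Matrix.mul_apply, Fin.sum_univ_succ, h11]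
    have : sie S hS = ⁅lev E E hEE hEE, sie T hT⁆ := by
      rw [commutatorElement_def, h1, mul_inv_cancel_right, ← sie_mul hS hT, mul_inv_cancel_right]
    rw [this]
    exact Subgroup.commutator_mem_commutator (Subgroup.mem_top _) (Subgroup.mem_top _)
  have hcomm : sie S hS * lev A B hAB hBA = lev A B hAB hBA * sie S hS := by
    have h1 : A * S = S * Bᵀ := by
      ext i j; fin_cases i <;> fin_cases j <;> simp [S, A, B, Matrix.mul_apply, Fin.sum_univ_succ]
    exact (lev_mul_sie hAB hBA hS hS h1).symm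
  refine six_of_injective f hf ht hy hw hcomm hSS ?_ ?_ ?_
  · have hA3 : A * A * A = 1 := by
      ext i j; fin_cases i <;> fin_cases j <;> simp [A, h11]
    have hB3 : B * (B * B) = 1 := by
      ext i j; fin_cases i <;> fin_cases j <;> simp [B, h11]
    rw [lev_mul, lev_mul]
    apply H6.ext
    show fromBlocks (A * A * A) 0 0 (B * (B * B))ᵀ = 1
    rw [hA3, hB3, transpose_one, fromBlocks_one]
  · intro h
    have h1 := congrArg mat h
    have h2 : fromBlocks A' 0 0 B'ᵀ * fromBlocks 1 S 0 1 = fromBlocks 1 S 0 1 * fromBlocks A' 0 0 B'ᵀ := h1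
    rw [fromBlocks_multiply, fromBlocks_multiply] at h2
    have h3 := (fromBlocks_inj.1 h2).2.1
    have h4 := congrFun (congrFun h3 0) 2
    simp [A', B', S, Matrix.vecMul, dotProduct, Fin.sum_univ_succ] at h4
  · intro h
    rw [lev_mul, lev_mul] at h
    have h1 := congrArg mat h
    have h2 : fromBlocks (A' * A) 0 0 (B * B')ᵀ = fromBlocks (A * A') 0 0 (B' * B)ᵀ := h1
    have h3 := (fromBlocks_inj.1 h2).1
    have h4 := congrFun (congrFun h3 0) 2
    simp [A', A] at h4

end Hyp

/-! ### The families -/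

section Fam

variable {F : Type*} [Field F]

/-- the first three of `m` indices -/
def finSplit {m : ℕ} (hm : 3 ≤ m) : Fin 3 ⊕ Fin (m - 3) ≃ Fin m :=
  finSumFinEquiv.trans (finCongr (by omega))

theorem sum_finSplit {m : ℕ} (hm : 3 ≤ m) (f : Fin m → F) :
    ∑ i, f i = ∑ i, f (finSplit hm (Sum.inl i)) + ∑ i, f (finSplit hm (Sum.inr i)) := by
  rw [← Equiv.sum_comp (finSplit hm), Fintype.sum_sum_type]

/-- splitting off three hyperbolic planes -/
def plusSplit {m : ℕ} (hm : 3 ≤ m) :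
    (Fin 3 ⊕ Fin 3) ⊕ (Fin (m - 3) ⊕ Fin (m - 3)) ≃ Fin m ⊕ Fin m :=
  (Equiv.sumSumSumComm _ _ _ _).trans (Equiv.sumCongr (finSplit hm) (finSplit hm))

theorem six_plus [CharP F 2] {m : ℕ} (hm : 3 ≤ m) : H318.Six (POmega F (quadFormPlus m F)) := by
  refine six_of_embedding (extIso (plusSplit hm) (quadFormPlus 3 F) (quadFormPlus m F)
    (quadFormPlus (m - 3) F) ?_) (extIso_injective _ _ _ _ _)
  intro v
  exact sum_finSplit hm (fun i => v (Sum.inl i) * v (Sum.inr i))

/-- splitting off three hyperbolic planes -/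
def minusSplit {m : ℕ} (hm : 3 ≤ m) :
    (Fin 3 ⊕ Fin 3) ⊕ ((Fin (m - 3) ⊕ Fin (m - 3)) ⊕ Fin 2) ≃ (Fin m ⊕ Fin m) ⊕ Fin 2 :=
  (Equiv.sumAssoc _ _ _).symm.trans (Equiv.sumCongr (plusSplit hm) (Equiv.refl _))

theorem six_minus [CharP F 2] {m : ℕ} (hm : 3 ≤ m) (a b : F) :
    H318.Six (POmega F (quadFormMinus m F a b)) := by
  refine six_of_embedding (extIso (minusSplit hm) (quadFormPlus 3 F) (quadFormMinus m F a b)
    (quadFormMinus (m - 3) F a b) ?_) (extIso_injective _ _ _ _ _)
  intro v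
  have h1 := sum_finSplit hm (fun i => v (Sum.inl (Sum.inl i)) * v (Sum.inl (Sum.inr i)))
  unfold quadFormMinus quadFormPlus
  rw [h1, add_assoc]
  rfl

end Fam

end Cfsg.Agent.H153.SixOmega

namespace Cfsg.Agent.H153

open SixOmega

variable {G : Type*} [Group G]

theorem six_omegaPlusChar_two (h : Cfsg.IsPOmegaPlusChar 2 G) : H318.Six G := by
  obtain ⟨F, _, _, _, m, hm, ⟨e⟩⟩ := h
  exact (six_plus (F := F) (m := m) (by omega)).congr e.symm

theorem six_omegaMinusChar_two (h : Cfsg.IsPOmegaMinusChar 2 G) : H318.Six G := by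
  obtain ⟨F, _, _, _, m, a, b, hm, -, ⟨e⟩⟩ := h
  exact (six_minus (F := F) (m := m - 1) (by omega) a b).congr e.symm

end Cfsg.Agent.H153
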