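import Mathlib
import Cfsg.Prelude.Def_Classification2
import Cfsg.Agent.Mrg.Omega.Quasithin.Row.E27
import Cfsg.Agent.H318.Six

/-!
# Elements of order six in `He`, `Suz`, `ON`, `HN`, `Th` (helper153)

Read off the presentations: the relations give commuting elements with `x ^ 2 = 1` and `y ^ 3 = 1`, and if one of
them is trivial the group collapses.
-/

set_option autoImplicit false
set_option maxRecDepth 10000

namespace Cfsg.Agent.H153.SixPres

open Cfsg.Spor Cfsg.Agent.Omega.Quasithin.Row.E27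

section Abs

/-- normal form of words -/
local macro "wd" : tactic => `(tactic| simp only [pow_succ, pow_zero, one_mul, mul_one, mul_assoc, mul_inv_rev, inv_inv,
  inv_one, mul_inv_cancel_left, inv_mul_cancel_left, mul_inv_cancel, inv_mul_cancel])

variable {G : Type*} [Group G]

theorem one_of_three {x : G} (h2 : x * x = 1) (h3 : x ^ 3 = 1) : x = 1 := by
  rw [pow_succ, pow_two, h2, one_mul] at h3
  exact h3

theorem one_of_five {x : G} (h2 : x * x = 1) (h5 : x ^ 5 = 1) : x = 1 := by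
  have h : x ^ 5 = (x * x) * (x * x) * x := by wd
  rw [h, h2, one_mul, one_mul] at h5
  exact h5

theorem eq_of_mul {x y : G} (hy : y * y = 1) (h : x * y = 1) : x = y := by
  rw [← inv_eq_of_mul_eq_one_left hy]
  exact eq_inv_of_mul_eq_one_left h

/-- commuting involutions with product of order three are equal -/
theorem eq_of_comm {x y : G} (hx : x * x = 1) (hy : y * y = 1) (h : x * y = y * x) (h3 : (x * y) ^ 3 = 1) :
    x = y := by
  apply eq_of_mul hy
  apply one_of_three _ h3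
  calc x * y * (x * y) = x * (y * x) * y := by wd
    _ = (x * x) * (y * y) := by rw [← h]; wd
    _ = 1 := by rw [hx, hy, one_mul]

theorem sq_mul {x y : G} (hx : x * x = 1) (hy : y * y = 1) (h : x * y = y * x) : x * y * (x * y) = 1 := by
  calc x * y * (x * y) = x * (y * x) * y := by wd
    _ = (x * x) * (y * y) := by rw [← h]; wd
    _ = 1 := by rw [hx, hy, one_mul]

theorem cube {y : G} (h : y ^ 3 = 1) : y * y * y = 1 := by rw [← h, pow_succ, pow_two]

/-- **He** -/
theorem he {a b c d e f g : G}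
    (sa : a * a = 1) (sb : b * b = 1) (sc : c * c = 1) (sd : d * d = 1) (se : e * e = 1) (sf : f * f = 1)
    (sg : g * g = 1) (bc : (b * c) ^ 3 = 1) (de : (d * e) ^ 3 = 1) (df : (d * f) ^ 3 = 1) (gd : (g * d) ^ 3 = 1)
    (eb : e * b = b * e) (ec : e * c = c * e) (bd : b * d = d * b) (ad : a * d = d * a) (ef : e * f = f * e)
    (eg : e * g = g * e) (E2 : e = (a * b * c) ^ 3) (E3 : a = (c * d) ^ 5)
    (H : ∀ z : G, ¬ (a ∈ Subgroup.zpowers z ∧ b ∈ Subgroup.zpowers z ∧ c ∈ Subgroup.zpowers z ∧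
      d ∈ Subgroup.zpowers z ∧ e ∈ Subgroup.zpowers z ∧ f ∈ Subgroup.zpowers z ∧ g ∈ Subgroup.zpowers z)) :
    H318.Six G := by
  refine ⟨e, b * c, ?_, ?_, se, ?_, cube bc⟩
  · rw [← mul_assoc, eb, mul_assoc, ec, mul_assoc]
  · intro h
    have hd : d = 1 := one_of_three sd (by rwa [h, mul_one] at de)
    have hf : f = 1 := one_of_three sf (by rwa [hd, one_mul] at df)
    have hg : g = 1 := one_of_three sg (by rwa [hd, mul_one] at gd)
    have ha : a = c := by
      rw [E3, hd, mul_one]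
      calc c ^ 5 = (c * c) * (c * c) * c := by wd
        _ = c := by rw [sc, one_mul, one_mul]
    have hb : b = 1 := by
      have h1 : (c * b * c) ^ 3 = 1 := by rw [← h, E2, ha]
      have h2 : c * b * c = 1 := by
        apply one_of_three _ h1
        calc c * b * c * (c * b * c) = c * b * (c * c) * b * c := by wd
          _ = c * (b * b) * c := by rw [sc]; wd
          _ = 1 := by rw [sb, mul_one, sc]
      calc b = (c * c) * b * (c * c) := by rw [sc, one_mul, mul_one]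
        _ = c * (c * b * c) * c := by wd
        _ = 1 := by rw [h2, mul_one, sc]
    have hc : c = 1 := one_of_three sc (by rwa [hb, one_mul] at bc)
    refine H 1 ⟨?_, ?_, ?_, ?_, ?_, ?_, ?_⟩
    · rw [ha, hc]; exact one_mem _
    · rw [hb]; exact one_mem _
    · rw [hc]; exact one_mem _
    · rw [hd]; exact one_mem _
    · rw [h]; exact one_mem _
    · rw [hf]; exact one_mem _
    · rw [hg]; exact one_mem _
  · intro h
    have hbc : b = c := eq_of_mul sc h
    have ha : a = b * d := by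
      rw [E3, ← hbc]
      calc (b * d) ^ 5 = (b * d * (b * d)) * (b * d * (b * d)) * (b * d) := by wd
        _ = b * d := by rw [sq_mul sb sd bd, one_mul, one_mul]
    have he : e = a := by
      rw [E2, ← hbc, mul_assoc, sb, mul_one, pow_succ, pow_two, sa, one_mul]
    have hd : d = a := by
      apply eq_of_comm sd sa ad.symm
      rw [← he]; exact de
    have hb : b = 1 := by
      have h1 : b * d = 1 * d := by rw [← ha, ← hd, one_mul]
      exact mul_right_cancel h1
    have hf : f = a := by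
      have h1 : d = f := eq_of_comm sd sf (by rw [hd, ← he, ef]) df
      rw [← h1, hd]
    have hg : g = a := by
      have h1 : g = d := eq_of_comm sg sd (by rw [hd, ← he, eg]) gd
      rw [h1, hd]
    refine H a ⟨Subgroup.mem_zpowers a, ?_, ?_, ?_, ?_, ?_, ?_⟩
    · rw [hb]; exact one_mem _
    · rw [← hbc, hb]; exact one_mem _
    · rw [hd]; exact Subgroup.mem_zpowers a
    · rw [he]; exact Subgroup.mem_zpowers a
    · rw [hf]; exact Subgroup.mem_zpowers a
    · rw [hg]; exact Subgroup.mem_zpowers a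

/-- **Suz** -/
theorem suz {a b c d e f g : G}
    (sa : a * a = 1) (sb : b * b = 1) (sc : c * c = 1) (sd : d * d = 1) (se : e * e = 1) (sf : f * f = 1)
    (sg : g * g = 1) (ab : (a * b) ^ 5 = 1) (bc : (b * c) ^ 3 = 1) (de : (d * e) ^ 3 = 1) (bf : (b * f) ^ 3 = 1)
    (gb : (g * b) ^ 3 = 1) (eb : e * b = b * e) (ec : e * c = c * e) (bd : b * d = d * b)
    (E1 : a = (c * d) ^ 4) (E2 : ((b * c * d * c * d) ^ 5 * e) ^ 3 = 1)
    (H : ∀ z : G, ¬ (a ∈ Subgroup.zpowers z ∧ b ∈ Subgroup.zpowers z ∧ c ∈ Subgroup.zpowers z ∧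
      d ∈ Subgroup.zpowers z ∧ e ∈ Subgroup.zpowers z ∧ f ∈ Subgroup.zpowers z ∧ g ∈ Subgroup.zpowers z)) :
    H318.Six G := by
  refine ⟨e, b * c, ?_, ?_, se, ?_, cube bc⟩
  · rw [← mul_assoc, eb, mul_assoc, ec, mul_assoc]
  · intro h
    have hd : d = 1 := one_of_three sd (by rwa [h, mul_one] at de)
    have ha : a = 1 := by
      rw [E1, hd, mul_one]
      calc c ^ 4 = (c * c) * (c * c) := by wd
        _ = 1 := by rw [sc, one_mul]
    have hb : b = 1 := one_of_five sb (by rwa [ha, one_mul] at ab)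
    have hc : c = 1 := one_of_three sc (by rwa [hb, one_mul] at bc)
    have hf : f = 1 := one_of_three sf (by rwa [hb, one_mul] at bf)
    have hg : g = 1 := one_of_three sg (by rwa [hb, mul_one] at gb)
    refine H 1 ⟨?_, ?_, ?_, ?_, ?_, ?_, ?_⟩
    · rw [ha]; exact one_mem _
    · rw [hb]; exact one_mem _
    · rw [hc]; exact one_mem _
    · rw [hd]; exact one_mem _
    · rw [h]; exact one_mem _
    · rw [hf]; exact one_mem _
    · rw [hg]; exact one_mem _
  · intro h
    have hbc : b = c := eq_of_mul sc h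
    have ha : a = 1 := by
      rw [E1, ← hbc]
      calc (b * d) ^ 4 = (b * d * (b * d)) * (b * d * (b * d)) := by wd
        _ = 1 := by rw [sq_mul sb sd bd, one_mul]
    have hb : b = 1 := one_of_five sb (by rwa [ha, one_mul] at ab)
    have hc : c = 1 := hbc ▸ hb
    have hf : f = 1 := one_of_three sf (by rwa [hb, one_mul] at bf)
    have hg : g = 1 := one_of_three sg (by rwa [hb, mul_one] at gb)
    have he : e = 1 := by
      apply one_of_three se
      rw [hb, hc, one_mul, one_mul, mul_one, sd, one_pow, one_mul] at E2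
      exact E2
    have hd : d = 1 := one_of_three sd (by rwa [he, mul_one] at de)
    refine H 1 ⟨?_, ?_, ?_, ?_, ?_, ?_, ?_⟩
    · rw [ha]; exact one_mem _
    · rw [hb]; exact one_mem _
    · rw [hc]; exact one_mem _
    · rw [hd]; exact one_mem _
    · rw [he]; exact one_mem _
    · rw [hf]; exact one_mem _
    · rw [hg]; exact one_mem _

/-- **ON** -/
theorem on {a b c d e f g : G}
    (sa : a * a = 1) (sb : b * b = 1) (sc : c * c = 1) (sd : d * d = 1) (se : e * e = 1) (sf : f * f = 1)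
    (ab : (a * b) ^ 3 = 1) (bc : (b * c) ^ 3 = 1) (de : (d * e) ^ 3 = 1) (ef : (e * f) ^ 3 = 1)
    (ad : a * d = d * a) (ae : a * e = e * a) (df : d * f = f * d) (ce : c * e = e * c) (bd : b * d = d * b)
    (E1 : a * f = g ^ 2) (E2 : a * f = (c * d) ^ 4) (E3 : (b * c * d * g) ^ 5 = 1)
    (E4 : g * b * (c⁻¹ * g * c) * (b⁻¹ * g * b) * (c⁻¹ * g * c) = 1)
    (H : ∀ z : G, ¬ (a ∈ Subgroup.zpowers z ∧ b ∈ Subgroup.zpowers z ∧ c ∈ Subgroup.zpowers z ∧
      d ∈ Subgroup.zpowers z ∧ e ∈ Subgroup.zpowers z ∧ f ∈ Subgroup.zpowers z ∧ g ∈ Subgroup.zpowers z)) :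
    H318.Six G := by
  refine ⟨a, d * e, ?_, ?_, sa, ?_, cube de⟩
  · rw [← mul_assoc, ad, mul_assoc, ae, mul_assoc]
  · intro h
    have hb : b = 1 := one_of_three sb (by rwa [h, one_mul] at ab)
    have hc : c = 1 := one_of_three sc (by rwa [hb, one_mul] at bc)
    have hf : f = 1 := by
      rw [h, hc, one_mul, one_mul] at E2
      rw [E2]
      calc d ^ 4 = (d * d) * (d * d) := by wd
        _ = 1 := by rw [sd, one_mul]
    have he : e = 1 := one_of_three se (by rwa [hf, mul_one] at ef)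
    have hd : d = 1 := one_of_three sd (by rwa [he, mul_one] at de)
    have hg : g = 1 := by
      apply one_of_five
      · rw [h, hf, one_mul, pow_two] at E1
        exact E1.symm
      · rw [hb, hc, hd, one_mul, one_mul, one_mul] at E3
        exact E3
    refine H 1 ⟨?_, ?_, ?_, ?_, ?_, ?_, ?_⟩
    · rw [h]; exact one_mem _
    · rw [hb]; exact one_mem _
    · rw [hc]; exact one_mem _
    · rw [hd]; exact one_mem _
    · rw [he]; exact one_mem _
    · rw [hf]; exact one_mem _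
    · rw [hg]; exact one_mem _
  · intro h
    have hde : d = e := eq_of_mul se h
    have hf : f = d := by
      have h1 : e = f := eq_of_comm se sf (by rw [← hde, df]) ef
      rw [← h1, hde]
    have cd : (c * d) ^ 4 = 1 := by
      have h1 := sq_mul sc sd (by rw [hde, ce])
      calc (c * d) ^ 4 = (c * d * (c * d)) * (c * d * (c * d)) := by wd
        _ = 1 := by rw [h1, one_mul]
    have ha : a = d := by
      rw [cd] at E2
      rw [← hf]
      exact eq_of_mul sf E2
    have hb : b = d := by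
      have h1 : a = b := eq_of_comm sa sb (by rw [ha, bd]) ab
      rw [← h1, ha]
    have hc : c = d := by
      have h1 : b = c := eq_of_comm sb sc (by rw [hb, hde, ce]) bc
      rw [← h1, hb]
    have hg2 : g * g = 1 := by rw [← pow_two, ← E1, ha, hf, sd]
    have hdi : d⁻¹ = d := inv_eq_of_mul_eq_one_left sd
    have hd : d = 1 := by
      rw [hb, hc, hdi] at E4
      calc d = (g * g) * ((g * g) * d) := by rw [hg2, one_mul, one_mul]
        _ = g * (d * d) * g * (d * d) * g * (d * d) * g * d := by rw [sd]; wd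
        _ = g * d * (d * g * d) * (d * g * d) * (d * g * d) := by wd
        _ = 1 := E4
    have hg : g = 1 := by
      apply one_of_five hg2
      rw [hb, hc, hd, one_mul, one_mul, one_mul] at E3
      exact E3
    refine H 1 ⟨?_, ?_, ?_, ?_, ?_, ?_, ?_⟩
    · rw [ha, hd]; exact one_mem _
    · rw [hb, hd]; exact one_mem _
    · rw [hc, hd]; exact one_mem _
    · rw [hd]; exact one_mem _
    · rw [← hde, hd]; exact one_mem _
    · rw [hf, hd]; exact one_mem _
    · rw [hg]; exact one_mem _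

/-- **HN**: `y` has order six -/
theorem hn {x y z t : G} (R1 : y ^ 6 = 1) (R2 : x ^ 2 * y * x ^ 2 * y⁻¹ = 1)
    (R4 : (x⁻¹ * y ^ 2 * x * y ^ 3) ^ 3 = 1) (R6 : (x * y * x * y ^ 3) ^ 4 = 1) (R7 : z ^ 2 = 1)
    (R8 : (z * x) ^ 2 = 1)
    (R10 : z * (((y ^ 3 * x * y * x * y)⁻¹ * z * (y ^ 3 * x * y * x * y)) * x) ^ 3 = 1)
    (R11 : t ^ 5 = 1) (R12 : (x⁻¹ * t * x) * t ^ 2 = 1) (R14 : (z * t) ^ 3 = 1)
    (H : ∀ w : G, ¬ (x ∈ Subgroup.zpowers w ∧ y ∈ Subgroup.zpowers w ∧ z ∈ Subgroup.zpowers w ∧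
      t ∈ Subgroup.zpowers w)) : H318.Six G := by
  have sz : z * z = 1 := by rw [← pow_two]; exact R7
  have hzx : z * x * (z * x) = 1 := by rw [← pow_two]; exact R8
  have key : y ≠ 1 := by
    intro hy
    rw [hy] at R2 R10
    simp only [one_pow, one_mul, mul_one, inv_one] at R2 R10
    have h4 : x ^ 4 = 1 := by rw [← R2]; wd
    have hxz : z * x = x⁻¹ * z := by
      have h1 : z * x = (z * x)⁻¹ := eq_inv_of_mul_eq_one_left hzx
      rw [h1, mul_inv_rev, inv_eq_of_mul_eq_one_left sz]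
    have hx : x = 1 := by
      have h1 : (x * x)⁻¹ * z * (x * x) * x = z * x := by
        have h2 : z * x * x = x⁻¹ * x⁻¹ * z := by
          rw [hxz, mul_assoc, hxz]; wd
        calc (x * x)⁻¹ * z * (x * x) * x = x⁻¹ * x⁻¹ * (z * x * x) * x := by wd
          _ = x⁻¹ * x⁻¹ * (x⁻¹ * x⁻¹ * z) * x := by rw [h2]
          _ = (x ^ 4)⁻¹ * z * x := by wd
          _ = z * x := by rw [h4, inv_one, one_mul]
      rw [h1] at R10
      calc x = (z * z) * x * (z * x * (z * x)) := by rw [sz, hzx, one_mul, mul_one]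
        _ = z * (z * x) ^ 3 := by wd
        _ = 1 := R10
    rw [hx] at R12
    simp only [inv_one, one_mul, mul_one] at R12
    have h3 : t ^ 3 = 1 := by rw [← R12]; wd
    have ht : t = 1 := by
      calc t = t ^ 5 * t ^ 5 * (t ^ 3 * t ^ 3 * t ^ 3)⁻¹ := by wd
        _ = 1 := by rw [R11, h3]; wd
    rw [ht, mul_one] at R14
    have hz : z = 1 := one_of_three sz R14
    refine H 1 ⟨?_, ?_, ?_, ?_⟩
    · rw [hx]; exact one_mem _
    · rw [hy]; exact one_mem _
    · rw [hz]; exact one_mem _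
    · rw [ht]; exact one_mem _
  refine ⟨y ^ 3, y ^ 2, by wd, ?_, ?_, ?_, ?_⟩
  · intro h3
    apply key
    rw [h3, mul_one] at R6
    have h1 : y * x ^ 2 * y⁻¹ = (x ^ 2)⁻¹ := by
      apply eq_inv_of_mul_eq_one_right
      rw [← R2]; wd
    have h2 : y ^ 3 * x ^ 2 * (y ^ 3)⁻¹ = (x ^ 2)⁻¹ := by
      calc y ^ 3 * x ^ 2 * (y ^ 3)⁻¹ = y * (y * (y * x ^ 2 * y⁻¹) * y⁻¹) * y⁻¹ := by wd
        _ = y * (y * (x ^ 2)⁻¹ * y⁻¹) * y⁻¹ := by rw [h1]
        _ = y * (y * x ^ 2 * y⁻¹)⁻¹ * y⁻¹ := by wd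
        _ = y * ((x ^ 2)⁻¹)⁻¹ * y⁻¹ := by rw [h1]
        _ = y * x ^ 2 * y⁻¹ := by rw [inv_inv]
        _ = (x ^ 2)⁻¹ := h1
    rw [h3, one_mul, inv_one, mul_one] at h2
    have h4 : y * x ^ 2 = x ^ 2 * y := by
      calc y * x ^ 2 = y * x ^ 2 * y⁻¹ * y := by wd
        _ = (x ^ 2)⁻¹ * y := by rw [h1]
        _ = x ^ 2 * y := by rw [← h2]
    have h5 : x ^ 4 = 1 := by
      calc x ^ 4 = x ^ 2 * x ^ 2 := by wd
        _ = x ^ 2 * (x ^ 2)⁻¹ := by rw [← h2]
        _ = 1 := by wd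
    have h6 : (y * x ^ 2) ^ 4 = 1 := by
      calc (y * x ^ 2) ^ 4 = x⁻¹ * (x * y * x) ^ 4 * x := by wd
        _ = 1 := by rw [R6]; wd
    have h7 : (y * x ^ 2) ^ 4 = y ^ 4 * (x ^ 2) ^ 4 := (show Commute y (x ^ 2) from h4).mul_pow 4
    have h8 : (x ^ 2) ^ 4 = 1 := by
      calc (x ^ 2) ^ 4 = x ^ 4 * x ^ 4 := by wd
        _ = 1 := by rw [h5, one_mul]
    rw [h7, h8, mul_one] at h6
    calc y = y ^ 4 * (y ^ 3)⁻¹ := by wd
      _ = 1 := by rw [h6, h3]; wd
  · rw [← R1]; wd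
  · intro h2
    apply key
    rw [h2, mul_one, inv_mul_cancel, one_mul] at R4
    calc y = (y ^ 3) ^ 3 * (y ^ 2 * y ^ 2 * y ^ 2 * y ^ 2)⁻¹ := by wd
      _ = 1 := by rw [R4, h2]; wd
  · rw [← R1]; wd

/-- **Th** -/
theorem th {a b c d e s t u : G} (sa : a ^ 2 = 1) (sb : b ^ 2 = 1) (sc : c ^ 2 = 1) (sd : d ^ 2 = 1)
    (se : e ^ 2 = 1) (ab : (a * b) ^ 3 = 1) (bc : (b * c) ^ 3 = 1) (acd : a = (c * d) ^ 4) (de : (d * e) ^ 3 = 1)
    (s7 : s ^ 7 = 1) (sd2 : (s * d) ^ 2 = 1)
    (es : (e⁻¹ * s⁻¹ * e * s) * (((s ^ 3)⁻¹ * e * (s ^ 3))⁻¹) = 1) (t3 : t ^ 3 = 1)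
    (ta : t⁻¹ * a⁻¹ * t * a = 1) (st : t⁻¹ * s * t = s ^ 2) (u2 : u ^ 2 = a * c)
    (ue : u⁻¹ * (b⁻¹ * (a * c) * b)⁻¹ * u * (b⁻¹ * (a * c) * b) = e) (tu : u⁻¹ * t * u = t⁻¹)
    (us : a * c = (u * s) ^ 3)
    (H : ∀ w : G, ¬ (a ∈ Subgroup.zpowers w ∧ b ∈ Subgroup.zpowers w ∧ c ∈ Subgroup.zpowers w ∧
      d ∈ Subgroup.zpowers w ∧ e ∈ Subgroup.zpowers w ∧ s ∈ Subgroup.zpowers w ∧ t ∈ Subgroup.zpowers w ∧
      u ∈ Subgroup.zpowers w)) : H318.Six G := by
  have key : a ≠ 1 := by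
    intro ha
    have hb : b = 1 := one_of_three (by rw [← pow_two, sb]) (by rwa [ha, one_mul] at ab)
    have hc : c = 1 := one_of_three (by rw [← pow_two, sc]) (by rwa [hb, one_mul] at bc)
    have he : e = 1 := by
      rw [← ue, ha, hb, hc]; wd
    have hd : d = 1 := one_of_three (by rw [← pow_two, sd]) (by rwa [he, mul_one] at de)
    have hs : s = 1 := by
      rw [hd, mul_one] at sd2
      calc s = s ^ 7 * (s ^ 2 * s ^ 2 * s ^ 2)⁻¹ := by wd
        _ = 1 := by rw [s7, sd2]; wd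
    have hu : u = 1 := by
      rw [ha, hc, mul_one] at u2
      rw [ha, hc, hs, mul_one, mul_one] at us
      calc u = u ^ 3 * (u ^ 2)⁻¹ := by wd
        _ = 1 := by rw [← us, u2]; wd
    have ht : t = 1 := by
      rw [hu] at tu
      have h1 : t = t⁻¹ := by rw [← tu]; wd
      have h2 : t * t = 1 := by
        calc t * t = t * t⁻¹ := by rw [← h1]
          _ = 1 := by wd
      exact one_of_three h2 t3
    refine H 1 ⟨?_, ?_, ?_, ?_, ?_, ?_, ?_, ?_⟩
    · rw [ha]; exact one_mem _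
    · rw [hb]; exact one_mem _
    · rw [hc]; exact one_mem _
    · rw [hd]; exact one_mem _
    · rw [he]; exact one_mem _
    · rw [hs]; exact one_mem _
    · rw [ht]; exact one_mem _
    · rw [hu]; exact one_mem _
  refine ⟨a, t, ?_, key, by rw [← pow_two, sa], ?_, cube t3⟩
  · calc a * t = a * t * (t⁻¹ * a⁻¹ * t * a) := by rw [ta, mul_one]
      _ = t * a := by wd
  · intro ht
    apply key
    have hs : s = 1 := by
      rw [ht] at st
      calc s = s ^ 2 * s⁻¹ := by wd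
        _ = 1 := by rw [← st]; wd
    have he : e = 1 := by
      rw [hs] at es
      calc e = ((e⁻¹ * 1⁻¹ * e * 1) * (((1 ^ 3)⁻¹ * e * (1 ^ 3))⁻¹))⁻¹ := by wd
        _ = 1 := by rw [es, inv_one]
    have hd : d = 1 := one_of_three (by rw [← pow_two, sd]) (by rwa [he, mul_one] at de)
    rw [acd, hd, mul_one]
    calc c ^ 4 = c ^ 2 * c ^ 2 := by wd
      _ = 1 := by rw [sc, one_mul]

end Abs

section

variable {α : Type*} [DecidableEq α] {edges : List (α × ℕ × α)} {extra : List (FreeGroup α)}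

/-- a further relator -/
theorem ex {r : FreeGroup α} (hr : r ∈ extra) : PresentedGroup.mk (coxRelators edges ∪ {r | r ∈ extra}) r = 1 :=
  PresentedGroup.one_of_mem (Or.inr hr)

/-- if all generators lie in a cyclic subgroup, the group is commutative -/
theorem comm_of_mem {g : CoxPresented α edges extra}
    (h : ∀ x : α, (PresentedGroup.of x : CoxPresented α edges extra) ∈ Subgroup.zpowers g)
    (a b : CoxPresented α edges extra) : a * b = b * a := by
  have h1 : Subgroup.zpowers g = ⊤ := by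
    rw [eq_top_iff, ← PresentedGroup.closure_range_of, Subgroup.closure_le]
    rintro _ ⟨x, rfl⟩
    exact h x
  obtain ⟨i, rfl⟩ := Subgroup.mem_zpowers_iff.1 (h1.symm ▸ Subgroup.mem_top a : a ∈ Subgroup.zpowers g)
  obtain ⟨j, rfl⟩ := Subgroup.mem_zpowers_iff.1 (h1.symm ▸ Subgroup.mem_top b : b ∈ Subgroup.zpowers g)
  rw [← zpow_add, ← zpow_add, add_comm]

end

theorem nodes_He (x : He.Gen) : x ∈ coxNodes He.edges := by cases x <;> decide

theorem six_he (hna : ¬ ∀ a b : He, a * b = b * a) : H318.Six He := by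
  have sq : ∀ x, (PresentedGroup.of x : He) * PresentedGroup.of x = 1 := fun x => cox_sq (nodes_He x)
  have h3 : ∀ x y, coxLabel He.edges x y = 3 → ((PresentedGroup.of x : He) * PresentedGroup.of y) ^ 3 = 1 :=
    fun x y => cox_three (nodes_He x) (nodes_He y)
  have h2 : ∀ x y, coxLabel He.edges x y = 2 →
      (PresentedGroup.of x : He) * PresentedGroup.of y = PresentedGroup.of y * PresentedGroup.of x :=
    fun x y => cox_comm (nodes_He x) (nodes_He y)
  refine he (a := PresentedGroup.of .a) (b := PresentedGroup.of .b) (c := PresentedGroup.of .c)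
    (d := PresentedGroup.of .d) (e := PresentedGroup.of .e) (f := PresentedGroup.of .f) (g := PresentedGroup.of .g)
    (sq _) (sq _) (sq _) (sq _) (sq _) (sq _) (sq _) (h3 _ _ (by decide)) (h3 _ _ (by decide)) (h3 _ _ (by decide))
    (h3 _ _ (by decide)) (h2 _ _ (by decide)) (h2 _ _ (by decide)) (h2 _ _ (by decide)) (h2 _ _ (by decide))
    (h2 _ _ (by decide)) (h2 _ _ (by decide)) ?_ ?_ ?_
  · exact eq_of_mul_inv_eq_one (ex (r := He.e * ((He.a * He.b * He.c) ^ 3)⁻¹) (by simp [He.extra]))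
  · exact eq_of_mul_inv_eq_one (ex (r := He.a * ((He.c * He.d) ^ 5)⁻¹) (by simp [He.extra]))
  · rintro z ⟨ha, hb, hc, hd, he, hf, hg⟩
    exact hna (comm_of_mem (g := z) fun x => by cases x <;> assumption)

theorem nodes_Suz (x : Suz.Gen) : x ∈ coxNodes Suz.edges := by cases x <;> decide

theorem six_suz (hna : ¬ ∀ a b : Suz, a * b = b * a) : H318.Six Suz := by
  have sq : ∀ x, (PresentedGroup.of x : Suz) * PresentedGroup.of x = 1 := fun x => cox_sq (nodes_Suz x)
  have h3 : ∀ x y, coxLabel Suz.edges x y = 3 → ((PresentedGroup.of x : Suz) * PresentedGroup.of y) ^ 3 = 1 :=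
    fun x y => cox_three (nodes_Suz x) (nodes_Suz y)
  have h2 : ∀ x y, coxLabel Suz.edges x y = 2 →
      (PresentedGroup.of x : Suz) * PresentedGroup.of y = PresentedGroup.of y * PresentedGroup.of x :=
    fun x y => cox_comm (nodes_Suz x) (nodes_Suz y)
  have h5 : ((PresentedGroup.of .a : Suz) * PresentedGroup.of .b) ^ 5 = 1 := by
    have := cox (extra := Suz.extra) (nodes_Suz .a) (nodes_Suz .b)
    rwa [show coxLabel Suz.edges .a .b = 5 from by decide] at this
  refine suz (a := PresentedGroup.of .a) (b := PresentedGroup.of .b) (c := PresentedGroup.of .c)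
    (d := PresentedGroup.of .d) (e := PresentedGroup.of .e) (f := PresentedGroup.of .f) (g := PresentedGroup.of .g)
    (sq _) (sq _) (sq _) (sq _) (sq _) (sq _) (sq _) h5 (h3 _ _ (by decide)) (h3 _ _ (by decide)) (h3 _ _ (by decide))
    (h3 _ _ (by decide)) (h2 _ _ (by decide)) (h2 _ _ (by decide)) (h2 _ _ (by decide)) ?_ ?_ ?_
  · exact eq_of_mul_inv_eq_one (ex (r := Suz.a * ((Suz.c * Suz.d) ^ 4)⁻¹) (by simp [Suz.extra]))
  · exact ex (r := ((Suz.b * Suz.c * Suz.d * Suz.c * Suz.d) ^ 5 * Suz.e) ^ 3) (by simp [Suz.extra])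
  · rintro z ⟨ha, hb, hc, hd, he, hf, hg⟩
    exact hna (comm_of_mem (g := z) fun x => by cases x <;> assumption)

theorem six_on (hna : ¬ ∀ a b : ON, a * b = b * a) : H318.Six ON := by
  have nodes : ∀ x : ON.Gen, x ≠ .g → x ∈ coxNodes ON.edges := by intro x; cases x <;> decide
  have sq : ∀ x, x ≠ .g → (PresentedGroup.of x : ON) * PresentedGroup.of x = 1 := fun x hx => cox_sq (nodes x hx)
  have h3 : ∀ x y, x ≠ .g → y ≠ .g → coxLabel ON.edges x y = 3 →
      ((PresentedGroup.of x : ON) * PresentedGroup.of y) ^ 3 = 1 :=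
    fun x y hx hy => cox_three (nodes x hx) (nodes y hy)
  have h2 : ∀ x y, x ≠ .g → y ≠ .g → coxLabel ON.edges x y = 2 →
      (PresentedGroup.of x : ON) * PresentedGroup.of y = PresentedGroup.of y * PresentedGroup.of x :=
    fun x y hx hy => cox_comm (nodes x hx) (nodes y hy)
  refine on (a := PresentedGroup.of .a) (b := PresentedGroup.of .b) (c := PresentedGroup.of .c)
    (d := PresentedGroup.of .d) (e := PresentedGroup.of .e) (f := PresentedGroup.of .f) (g := PresentedGroup.of .g)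
    (sq _ (by decide)) (sq _ (by decide)) (sq _ (by decide)) (sq _ (by decide)) (sq _ (by decide)) (sq _ (by decide))
    (h3 _ _ (by decide) (by decide) (by decide)) (h3 _ _ (by decide) (by decide) (by decide))
    (h3 _ _ (by decide) (by decide) (by decide)) (h3 _ _ (by decide) (by decide) (by decide))
    (h2 _ _ (by decide) (by decide) (by decide)) (h2 _ _ (by decide) (by decide) (by decide))
    (h2 _ _ (by decide) (by decide) (by decide)) (h2 _ _ (by decide) (by decide) (by decide))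
    (h2 _ _ (by decide) (by decide) (by decide)) ?_ ?_ ?_ ?_ ?_
  · exact eq_of_mul_inv_eq_one (ex (r := (ON.a * ON.f) * ((ON.g ^ 2)⁻¹)) (by simp [ON.extra]))
  · exact eq_of_mul_inv_eq_one (ex (r := (ON.a * ON.f) * (((ON.c * ON.d) ^ 4)⁻¹)) (by simp [ON.extra]))
  · exact ex (r := (ON.b * ON.c * ON.d * ON.g) ^ 5) (by simp [ON.extra])
  · exact ex (r := ON.g * ON.b * (ON.c⁻¹ * ON.g * ON.c) * (ON.b⁻¹ * ON.g * ON.b) * (ON.c⁻¹ * ON.g * ON.c))
      (by simp [ON.extra])
  · rintro z ⟨ha, hb, hc, hd, he, hf, hg⟩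
    exact hna (comm_of_mem (g := z) fun x => by cases x <;> assumption)

theorem six_hn (hna : ¬ ∀ a b : HN, a * b = b * a) : H318.Six HN := by
  refine hn (x := PresentedGroup.of .x) (y := PresentedGroup.of .y) (z := PresentedGroup.of .z)
    (t := PresentedGroup.of .t) ?_ ?_ ?_ ?_ ?_ ?_ ?_ ?_ ?_ ?_ ?_
  · exact ex (r := HN.y ^ 6) (by simp [HN.extra])
  · exact ex (r := (HN.x ^ 2) * HN.y * (HN.x ^ 2) * (HN.y⁻¹)) (by simp [HN.extra])
  · exact ex (r := ((HN.x⁻¹) * (HN.y ^ 2) * HN.x * (HN.y ^ 3)) ^ 3) (by simp [HN.extra])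
  · exact ex (r := (HN.x * HN.y * HN.x * (HN.y ^ 3)) ^ 4) (by simp [HN.extra])
  · exact ex (r := HN.z ^ 2) (by simp [HN.extra])
  · exact ex (r := (HN.z * HN.x) ^ 2) (by simp [HN.extra])
  · exact ex (r := HN.z * (((((HN.y ^ 3) * HN.x * HN.y * HN.x * HN.y)⁻¹ * HN.z *
      ((HN.y ^ 3) * HN.x * HN.y * HN.x * HN.y)) * HN.x) ^ 3)) (by simp [HN.extra])
  · exact ex (r := HN.t ^ 5) (by simp [HN.extra])
  · exact ex (r := (HN.x⁻¹ * HN.t * HN.x) * (HN.t ^ 2)) (by simp [HN.extra])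
  · exact ex (r := (HN.z * HN.t) ^ 3) (by simp [HN.extra])
  · rintro z ⟨hx, hy, hz, ht⟩
    exact hna (comm_of_mem (g := z) fun x => by cases x <;> assumption)

theorem six_th (hna : ¬ ∀ a b : Th, a * b = b * a) : H318.Six Th := by
  refine th (a := PresentedGroup.of .a) (b := PresentedGroup.of .b) (c := PresentedGroup.of .c)
    (d := PresentedGroup.of .d) (e := PresentedGroup.of .e) (s := PresentedGroup.of .s) (t := PresentedGroup.of .t)
    (u := PresentedGroup.of .u) ?_ ?_ ?_ ?_ ?_ ?_ ?_ ?_ ?_ ?_ ?_ ?_ ?_ ?_ ?_ ?_ ?_ ?_ ?_ ?_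
  · exact ex (r := Th.a ^ 2) (by simp [Th.extra])
  · exact ex (r := Th.b ^ 2) (by simp [Th.extra])
  · exact ex (r := Th.c ^ 2) (by simp [Th.extra])
  · exact ex (r := Th.d ^ 2) (by simp [Th.extra])
  · exact ex (r := Th.e ^ 2) (by simp [Th.extra])
  · exact ex (r := (Th.a * Th.b) ^ 3) (by simp [Th.extra])
  · exact ex (r := (Th.b * Th.c) ^ 3) (by simp [Th.extra])
  · exact eq_of_mul_inv_eq_one (ex (r := Th.a * (((Th.c * Th.d) ^ 4)⁻¹)) (by simp [Th.extra]))
  · exact ex (r := (Th.d * Th.e) ^ 3) (by simp [Th.extra])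
  · exact ex (r := Th.s ^ 7) (by simp [Th.extra])
  · exact ex (r := (Th.s * Th.d) ^ 2) (by simp [Th.extra])
  · exact ex (r := (Th.e⁻¹ * Th.s⁻¹ * Th.e * Th.s) * (((Th.s ^ 3)⁻¹ * Th.e * (Th.s ^ 3))⁻¹)) (by simp [Th.extra])
  · exact ex (r := Th.t ^ 3) (by simp [Th.extra])
  · exact ex (r := Th.t⁻¹ * Th.a⁻¹ * Th.t * Th.a) (by simp [Th.extra])
  · exact eq_of_mul_inv_eq_one (ex (r := (Th.t⁻¹ * Th.s * Th.t) * ((Th.s ^ 2)⁻¹)) (by simp [Th.extra]))
  · exact eq_of_mul_inv_eq_one (ex (r := (Th.u ^ 2) * ((Th.a * Th.c)⁻¹)) (by simp [Th.extra]))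
  · exact eq_of_mul_inv_eq_one (ex (r := (Th.u⁻¹ * (Th.b⁻¹ * (Th.a * Th.c) * Th.b)⁻¹ * Th.u *
      (Th.b⁻¹ * (Th.a * Th.c) * Th.b)) * (Th.e⁻¹)) (by simp [Th.extra]))
  · exact eq_of_mul_inv_eq_one (ex (r := (Th.u⁻¹ * Th.t * Th.u) * ((Th.t⁻¹)⁻¹)) (by simp [Th.extra]))
  · exact eq_of_mul_inv_eq_one (ex (r := (Th.a * Th.c) * (((Th.u * Th.s) ^ 3)⁻¹)) (by simp [Th.extra]))
  · rintro z ⟨ha, hb, hc, hd, he, hs, ht, hu⟩
    exact hna (comm_of_mem (g := z) fun x => by cases x <;> assumption)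

end Cfsg.Agent.H153.SixPres
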