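import Mathlib
import Cfsg.Prelude.Def_Classification2
import Cfsg.Agent.SporadicB.J1.Main
import Cfsg.Agent.OddHalf.Table.OutJ2
import Cfsg.Agent.CpAutJThree.Row
import Cfsg.Agent.J4.Pres
import Cfsg.Agent.S0365
import Cfsg.Agent.Ly.Final
import Cfsg.Agent.OddHalf.Table.OutRu
import Cfsg.Agent.H153.SixMathieu
import Cfsg.Agent.H153.SixPres

/-!
# Elements of order six in `J1`, `J2`, `J3`, `J4`, `Ru`, `Ly` (helper153)
-/

set_option autoImplicit false
set_option maxRecDepth 100000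
set_option exponentiation.threshold 5000

namespace Cfsg.Agent.H153.SixSmall

open Cfsg.Spor

theorem j1 : H318.Six J1 := by
  open SporadicB.J1.Main in
  have h6 : ev [0, 3, 3] ^ 6 = 1 := ((rep_ev _).pow 6).eq Rep.one (by decide +kernel)
  have h2 : ev [0, 3, 3] ^ 2 ≠ 1 := ((rep_ev _).pow 2).ne Rep.one (by decide +kernel)
  have h3 : ev [0, 3, 3] ^ 3 ≠ 1 := ((rep_ev _).pow 3).ne Rep.one (by decide +kernel)
  refine ⟨ev [0, 3, 3] ^ 3, ev [0, 3, 3] ^ 2, ?_, h3, ?_, h2, ?_⟩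
  · rw [← pow_add, ← pow_add]
  · rw [← pow_add, h6]
  · rw [← pow_add, ← pow_add, h6]

theorem j2 : H318.Six J2 := by
  open OddHalf.Table.OutJ2 in
  obtain ⟨e⟩ := Cfsg.Agent.J2.HundredGens.J2_iso Cfsg.Agent.S1619.result.2.2.2
  refine H318.Six.congr ?_ e.symm
  exact H318.Six.of_orderOf (g := ⟨f, f_mem⟩) (by rw [Subgroup.orderOf_mk]; exact order_f)

theorem j3 {K : Type*} [Group K] (h : IsoJ3 K) : H318.Six K := by
  obtain ⟨c, hc, ⟨t, ht, htc⟩, -⟩ := Cfsg.Agent.CpAutJThree.exc h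
  exact ⟨t, c, htc, H318.Six.ne_one ht (by norm_num), H318.Six.sq_eq ht, H318.Six.ne_one hc (by norm_num),
    H318.Six.cube_eq hc⟩

theorem j4 (hna : ¬ ∀ a b : J4, a * b = b * a) : H318.Six J4 := by
  open Cfsg.Agent.J4.Pres in
  have hs : IsSimpleGroup M24 := Cfsg.Agent.S0365.result
  have hinj : Function.Injective phi := by
    rcases (MonoidHom.normal_ker phi).eq_bot_or_eq_top with h | h
    · exact (MonoidHom.ker_eq_bot_iff _).1 h
    · exfalso
      have h1 : ∀ g : M24, phi g = 1 := fun g => by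
        rw [← MonoidHom.mem_ker, h]
        exact Subgroup.mem_top g
      have hx : (PresentedGroup.of J4.Gen.x : J4) = 1 := phi_X.symm.trans (h1 _)
      have hy : (PresentedGroup.of J4.Gen.y : J4) = 1 := phi_Y.symm.trans (h1 _)
      refine hna (SixPres.comm_of_mem (g := PresentedGroup.of .t) fun g => ?_)
      cases g
      · rw [hx]; exact one_mem _
      · rw [hy]; exact one_mem _
      · exact Subgroup.mem_zpowers _
  exact SixMathieu.m24.of_injective phi hinj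

/-- `GL₂(5)` -/
theorem ly_abs {G : Type*} [Group G] {a b : G} (h4 : a ^ 4 * a ^ 4 = 1) (hne : a ^ 4 ≠ 1) (b5 : b ^ 5 = 1)
    (ab : (a * b) ^ 4 = 1) (ab2 : (a ^ 2)⁻¹ * b⁻¹ * (a ^ 2) * b = 1) (c3 : (a⁻¹ * b⁻¹ * a * b) ^ 3 = 1) :
    H318.Six G := by
  have h1 : a ^ 2 * b = b * a ^ 2 := by
    calc a ^ 2 * b = b * a ^ 2 * ((a ^ 2)⁻¹ * b⁻¹ * (a ^ 2) * b) := by group
      _ = b * a ^ 2 := by rw [ab2, mul_one]
  have hcb : Commute (a ^ 4) b := by
    have : Commute (a ^ 2) b := h1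
    have h2 := this.pow_left 2
    rwa [← pow_mul] at h2
  have hca : Commute (a ^ 4) a := (Commute.refl a).pow_left 4
  have hc : Commute (a ^ 4) (a⁻¹ * b⁻¹ * a * b) :=
    ((hca.inv_right.mul_right hcb.inv_right).mul_right hca).mul_right hcb
  refine ⟨a ^ 4, a⁻¹ * b⁻¹ * a * b, hc, hne, h4, ?_, by rw [← c3, pow_succ, pow_two]⟩
  intro h
  apply hne
  have h2 : Commute a b := by
    show a * b = b * a
    calc a * b = b * a * (a⁻¹ * b⁻¹ * a * b) := by group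
      _ = b * a := by rw [h, mul_one]
  have h3 : a ^ 4 * b ^ 4 = 1 := by rw [← h2.mul_pow, ab]
  have h5 : a ^ 4 = b := by
    calc a ^ 4 = (a ^ 4 * b ^ 4) * (b ^ 5)⁻¹ * b := by group
      _ = b := by rw [h3, b5]; group
  rw [h5] at h4 ⊢
  calc b = b ^ 5 * ((b * b) * (b * b))⁻¹ := by group
    _ = 1 := by rw [b5, h4]; group

theorem ly [hs : IsSimpleGroup Ly] : H318.Six Ly := by
  have h2 := Cfsg.Agent.Ly.Final.tw_order hs
  have r1 : (PresentedGroup.of Ly.Gen.b : Ly) ^ 5 = 1 :=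
    SixPres.ex (edges := Ly.edges) (extra := Ly.extra) (r := Ly.b ^ 5) (by simp [Ly.extra])
  have r2 : ((PresentedGroup.of Ly.Gen.a : Ly) * PresentedGroup.of Ly.Gen.b) ^ 4 = 1 :=
    SixPres.ex (edges := Ly.edges) (extra := Ly.extra) (r := (Ly.a * Ly.b) ^ 4) (by simp [Ly.extra])
  have r3 := SixPres.ex (edges := Ly.edges) (extra := Ly.extra) (r := (Ly.a ^ 2)⁻¹ * Ly.b⁻¹ * (Ly.a ^ 2) * Ly.b)
    (by simp [Ly.extra])
  have r4 := SixPres.ex (edges := Ly.edges) (extra := Ly.extra) (r := (Ly.a⁻¹ * Ly.b⁻¹ * Ly.a * Ly.b) ^ 3)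
    (by simp [Ly.extra])
  exact ly_abs (a := (PresentedGroup.of Ly.Gen.a : Ly)) (b := PresentedGroup.of Ly.Gen.b) (H318.Six.sq_eq h2)
    (H318.Six.ne_one h2 (by norm_num)) r1 r2 r3 r4

section Ru

open Cfsg.Agent.OddHalf.Table.OutRu

theorem c12 : eqw (rep 12 [9, 0]) [] = true := by decide +kernel
theorem c6 : Nat.beq (ev (rep 6 [9, 0]) 0) (ev [] 0) = false := by decide +kernel
theorem c4 : Nat.beq (ev (rep 4 [9, 0]) 0) (ev [] 0) = false := by decide +kernel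

theorem ru_h : H318.Six Cfsg.Agent.SporadicB.RuOrder.H := by
  have h12 : W [9, 0] ^ 12 = 1 := by rw [← W_rep, eqw_sound c12, W_nil]
  refine ⟨W [9, 0] ^ 6, W [9, 0] ^ 4, ?_, ?_, ?_, ?_, ?_⟩
  · rw [← pow_add, ← pow_add]
  · rw [← W_rep, ← W_nil]; exact ne_of_ev c6
  · rw [← pow_add, h12]
  · rw [← W_rep, ← W_nil]; exact ne_of_ev c4
  · rw [← pow_add, ← pow_add, h12]

theorem ru : H318.Six Ru := ru_h.congr Cfsg.Agent.RuLat.Main.equiv.symm

end Ru

end Cfsg.Agent.H153.SixSmall
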