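import Mathlib
import Cfsg.Prelude.Def_Classification2
import Cfsg.Agent.H153.SixCox
import Cfsg.Agent.H153.SixMathieu
import Cfsg.Agent.H153.SixPres
import Cfsg.Agent.H153.SixSmall

/-!
# Every sporadic group has commuting elements of order two and three (helper153)
-/

set_option autoImplicit false

namespace Cfsg.Agent.H153

open Cfsg.Spor

theorem not_comm_congr {G H : Type*} [Group G] [Group H] (e : G ≃* H) (h : ¬ ∀ a b : G, a * b = b * a) :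
    ¬ ∀ a b : H, a * b = b * a := fun h1 => h fun a b => e.injective (by rw [map_mul, map_mul, h1])

/-- **every sporadic simple group has an element of order six** -/
theorem six_sporadic {G : Type*} [Group G] [IsSimpleGroup G] (hna : ¬ ∀ a b : G, a * b = b * a)
    (h : Cfsg.IsSporadicGroup G) : H318.Six G := by
  rcases h with ⟨⟨e⟩⟩ | ⟨⟨e⟩⟩ | ⟨⟨e⟩⟩ | ⟨⟨e⟩⟩ | ⟨⟨e⟩⟩ | ⟨⟨e⟩⟩ | ⟨⟨e⟩⟩ | h | ⟨⟨e⟩⟩ | ⟨⟨e⟩⟩ | ⟨⟨e⟩⟩ | ⟨⟨e⟩⟩ | ⟨⟨e⟩⟩ |
    ⟨⟨e⟩⟩ | ⟨⟨e⟩⟩ | ⟨⟨e⟩⟩ | ⟨⟨e⟩⟩ | ⟨⟨e⟩⟩ | ⟨⟨e⟩⟩ | ⟨⟨e⟩⟩ | ⟨⟨e⟩⟩ | ⟨⟨e⟩⟩ | ⟨⟨e⟩⟩ | ⟨⟨e⟩⟩ | ⟨⟨e⟩⟩ | ⟨⟨e⟩⟩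
  · exact SixMathieu.m11.congr e.symm
  · exact SixMathieu.m12.congr e.symm
  · exact SixMathieu.m22.congr e.symm
  · exact SixMathieu.m23.congr e.symm
  · exact SixMathieu.m24.congr e.symm
  · exact SixSmall.j1.congr e.symm
  · exact SixSmall.j2.congr e.symm
  · exact SixSmall.j3 h
  · exact (SixSmall.j4 (not_comm_congr e hna)).congr e.symm
  · exact SixMathieu.co1.congr e.symm
  · exact SixMathieu.co2.congr e.symm
  · exact SixMathieu.co3.congr e.symm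
  · exact SixMathieu.mcl.congr e.symm
  · exact SixMathieu.hs.congr e.symm
  · exact (SixPres.six_suz (not_comm_congr e hna)).congr e.symm
  · exact (SixPres.six_he (not_comm_congr e hna)).congr e.symm
  · exact SixSmall.ru.congr e.symm
  · exact (SixPres.six_on (not_comm_congr e hna)).congr e.symm
  · have hs : IsSimpleGroup Ly :=
      haveI : Nontrivial Ly := e.symm.toEquiv.nontrivial
      IsSimpleGroup.isSimpleGroup_of_surjective e.toMonoidHom e.surjective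
    exact SixSmall.ly.congr e.symm
  · exact (SixCox.fi22 (not_comm_congr e hna)).congr e.symm
  · exact (SixCox.fi23 (not_comm_congr e hna)).congr e.symm
  · exact (SixCox.fi24' (not_comm_congr e hna)).congr e.symm
  · exact (SixPres.six_hn (not_comm_congr e hna)).congr e.symm
  · exact (SixPres.six_th (not_comm_congr e hna)).congr e.symm
  · exact (SixCox.b (not_comm_congr e hna)).congr e.symm
  · exact (SixCox.m (not_comm_congr e hna)).congr e.symm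

end Cfsg.Agent.H153
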