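import Cfsg.Agent.H153.ZerosONCent
import Cfsg.Agent.H771.KON
import Cfsg.Agent.H504.ZerosIso

/-!
# Zeros of characters: `O'N` (S4895, helper153)

`|C(x)| = 19`, `e = 6`, `m = 3`; 11 orders different from 19.
-/

set_option autoImplicit false

namespace Cfsg.Agent.H153.Zeros

open Subgroup Cfsg Cfsg.Agent.H92.KTools Cfsg.Agent.H771.KTools

namespace ON19

open Cfsg.Agent.H393.Iso Cfsg.Agent.H163.PG Cfsg.Agent.H149.Sp
open Cfsg.Spor (ON)

theorem not_adj : ¬ Adj ON 19 31 ∧ ¬ Adj ON 19 11 := by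
  have := finite_ON
  have hsim : IsSimpleGroup ON := Cfsg.Agent.KFacts.ON.Words.hs
  have hN := card_ON
  have h : Spor.IsoON ON := ⟨MulEquiv.refl _⟩
  have n11 : NA 11 ON := na_on_all h (by norm_num)
  have n19 : NA 19 ON := na_on_all h (by norm_num)
  have n31 : NA 31 ON := na_on_all h (by norm_num)
  have h1 : ¬ Adj ON 19 31 := Eng.not_adj (r := 19) (s := 31) (a := 9) (M := 782369280)
    (L := [(3, 4), (5, 1), (7, 3), (11, 1)]) (ks := [2, 3, 5, 6, 10, 15, 30]) (kills := []) (by rw [hN])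
    (by decide +kernel) (by norm_num) (by simp; norm_num)
    (by decide) (by decide +kernel) (by decide +kernel) (by decide +kernel) n19 n31 (by simp)
  have h2 : ¬ Adj ON 11 31 := Eng.not_adj (r := 11) (s := 31) (a := 9) (M := 1351365120)
    (L := [(3, 4), (5, 1), (7, 3), (19, 1)]) (ks := [2, 3, 5, 6, 10, 15, 30]) (kills := [19]) (by rw [hN])
    (by decide +kernel) (by norm_num) (by simp; norm_num)
    (by decide) (by decide +kernel) (by decide +kernel) (by decide +kernel) n11 n31 (by simpa using ⟨by norm_num, h1⟩)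
  have h3 : ¬ Adj ON 19 11 := Eng.not_adj (r := 19) (s := 11) (a := 9) (M := 2204858880)
    (L := [(3, 4), (5, 1), (7, 3), (31, 1)]) (ks := [2, 5, 10]) (kills := [31]) (by rw [hN])
    (by decide +kernel) (by norm_num) (by simp; norm_num)
    (by decide) (by decide +kernel) (by decide +kernel) (by decide +kernel) n19 n11
    (by simpa using ⟨by norm_num, fun h => h2 h.symm⟩)
  exact ⟨h1, h3⟩

theorem not_dvd_of_not_adj {x : ON} (hx : orderOf x = 19) {q : ℕ} (hq : q.Prime) (h19 : q ≠ 19)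
    (h : ¬ Adj ON 19 q) : ¬ q ∣ Nat.card (centralizer ({x} : Set ON)) := by
  intro hd
  have := finite_ON
  have : Fact q.Prime := ⟨hq⟩
  obtain ⟨y, hy⟩ := exists_prime_orderOf_dvd_card' q hd
  refine h (adj_of_commute (by norm_num) hq h19.symm hx (y := (y : ON)) (by rw [Subgroup.orderOf_coe, hy]) ?_)
  exact (mem_centralizer_singleton_iff.1 y.2).symm

theorem num : ∀ c ∈ H547.SelfCent.divl [(3, 4), (5, 1), (7, 3)], ∀ e ∈ [6, 18],
    460815505920 % (19 * c * e) = 0 → 460815505920 / (19 * c * e) % 19 = 1 → c = 1 ∨ c % 49 = 0 := by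
  decide +kernel

/-- **the elements of order 19 are self-centralizing** -/
theorem card_cent {x : ON} (hx : orderOf x = 19) : Nat.card (centralizer ({x} : Set ON)) = 19 := by
  have := finite_ON
  have hsq : ¬ 19 * 19 ∣ Nat.card ON := by rw [card_ON]; norm_num
  obtain ⟨e, he, hd, hm, -, hk⟩ := H547.SelfCent.arith (by norm_num) hx hsq
  have h2 : 2 ∣ e := by
    obtain ⟨x0, g0, hx0, hg0⟩ := exists_two
    obtain ⟨g, hg⟩ := transfer (by norm_num) hsq hx0 hx ⟨g0, hg0⟩
    exact hk g 18 2 0 Nat.prime_two hg (by norm_num) (by norm_num)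
  have h3 : 3 ∣ e := by
    obtain ⟨x0, g0, hx0, hg0⟩ := exists_three
    obtain ⟨g, hg⟩ := transfer (by norm_num) hsq hx0 hx ⟨g0, hg0⟩
    exact hk g 7 3 0 Nat.prime_three hg (by norm_num) (by norm_num)
  have he6 : e ∈ [6, 18] := by
    have h6 : 6 ∣ e := Nat.Coprime.mul_dvd_of_dvd_of_dvd (by norm_num) h2 h3
    obtain ⟨k, rfl⟩ := h6
    have h4 : k ∣ 3 := by
      have h5 : 6 * k ∣ 6 * 3 := he
      exact Nat.dvd_of_mul_dvd_mul_left (by norm_num) h5
    rcases (Nat.dvd_prime Nat.prime_three).1 h4 with rfl | rfl <;> simp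
  obtain ⟨c, hc⟩ := H547.SelfCent.dvd_cent hx
  have hodd : ¬ 2 ∣ 19 * c := hc ▸ H547.SelfCent.odd_cent hx na19
  have h11 : ¬ 11 ∣ 19 * c := hc ▸ not_dvd_of_not_adj hx (by norm_num) (by norm_num) not_adj.2
  have h31 : ¬ 31 ∣ 19 * c := hc ▸ not_dvd_of_not_adj hx (by norm_num) (by norm_num) not_adj.1
  have h49 : ¬ 49 ∣ 19 * c := hc ▸ not_49 hx
  have hcd : c ∣ 138915 := by
    have h4 : 19 * c ∣ 19 * 24253447680 := by
      have := Subgroup.card_subgroup_dvd_card (centralizer ({x} : Set ON))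
      rw [hc, card_ON] at this
      exact this
    have h5 : c ∣ 24253447680 := Nat.dvd_of_mul_dvd_mul_left (by norm_num) h4
    have h6 : c ∣ 2 ^ 9 * (11 * (31 * 138915)) := by
      have : (2 ^ 9 * (11 * (31 * 138915)) : ℕ) = 24253447680 := by norm_num
      rw [this]; exact h5
    have cop : ∀ q : ℕ, q.Prime → ¬ q ∣ 19 * c → Nat.Coprime c q := fun q hq h =>
      ((Nat.Prime.coprime_iff_not_dvd hq).2 fun h' => h (h'.mul_left 19)).symm
    have h7 := (Nat.Coprime.pow_right 9 (cop 2 Nat.prime_two hodd)).dvd_of_dvd_mul_left h6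
    have h8 := (cop 11 (by norm_num) h11).dvd_of_dvd_mul_left h7
    exact (cop 31 (by norm_num) h31).dvd_of_dvd_mul_left h8
  have hcl : c ∈ H547.SelfCent.divl [(3, 4), (5, 1), (7, 3)] := by
    refine H547.SelfCent.mem_divl _ c ?_ ?_
    · intro x hx
      simp only [List.mem_cons, List.not_mem_nil, or_false] at hx
      rcases hx with rfl | rfl | rfl <;> norm_num
    · have : ((([(3, 4), (5, 1), (7, 3)] : List (ℕ × ℕ)).map fun x => x.1 ^ x.2).prod : ℕ) = 138915 := by
        decide +kernel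
      rw [this]; exact hcd
  rw [hc, card_ON] at hd hm
  rcases num c hcl e he6 (Nat.mod_eq_zero_of_dvd hd) (by rw [hm]) with h4 | h4
  · rw [hc, h4]
  · exact absurd ((Nat.dvd_of_mod_eq_zero h4).mul_left 19) h49

open Cfsg.Agent.KFacts.ON.Cent Cfsg.Agent.KFacts.ON.Words Cfsg.Agent.KFacts.ON.Struct in
theorem orders : ∀ m ∈ ({1, 2, 3, 5, 7, 11, 31, 4, 6, 10, 14} : Finset ℕ), ∃ g : ON, orderOf g = m := by
  have hcard := card_ON
  have hfin : Finite ON := finite_ON
  have h2d : ∀ p, p.Prime → p ≠ 2 → p ∣ 161280 → HasOrd ON (2 * p) := fun p hp hp2 hd =>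
    two_mul_prime ff f_ne_one hp hp2
      (by rwa [Cfsg.Agent.KFacts.ON.Cent.card_cent])
  have hd : ∀ p, p.Prime → p ∣ 460815505920 → HasOrd ON p := fun p hp hd => hasOrd_prime hp (by rwa [hcard])
  intro m hm
  simp only [Finset.mem_insert, Finset.mem_singleton] at hm
  rcases hm with rfl | rfl | rfl | rfl | rfl | rfl | rfl | rfl | rfl | rfl | rfl
  · exact hasOrd_one _
  · exact hd 2 (by norm_num) (by norm_num)
  · exact hd 3 (by norm_num) (by norm_num)
  · exact hd 5 (by norm_num) (by norm_num)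
  · exact hd 7 (by norm_num) (by norm_num)
  · exact hd 11 (by norm_num) (by norm_num)
  · exact hd 31 (by norm_num) (by norm_num)
  · exact four vv ff f_ne_one
  · exact h2d 3 (by norm_num) (by norm_num) (by norm_num)
  · exact h2d 5 (by norm_num) (by norm_num) (by norm_num)
  · exact h2d 7 (by norm_num) (by norm_num) (by norm_num)

theorem model : H504.Zeros.Big ON := by
  have hfin : Finite ON := finite_ON
  obtain ⟨x, hx⟩ := hasOrd_prime (G := ON) (p := 19) (by norm_num) (by rw [card_ON]; norm_num)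
  exact H504.Zeros.big_of_index_orders (H504.Zeros.cc_of_prime (by norm_num) hx (card_cent hx)) (a := 19)
    (n := 24253447680) (e := 6) (m := 3) (by rw [Nat.card_zpowers, hx]) (by rw [card_ON]) (by norm_num) (by norm_num)
    (by norm_num) (by norm_num) _ orders (by decide) (by decide)

end ON19

/-- **`O'N`** -/
theorem on {S : Type*} [Group S] (h : Cfsg.Spor.IsoON S) : Cfsg.Agent.H504.Zeros.Big S := by
  have hfin := ON19.finite_ON
  obtain ⟨e⟩ := h
  have := Finite.of_equiv _ e.symm.toEquiv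
  exact H504.Zeros.Big.of_equiv e ON19.model

end Cfsg.Agent.H153.Zeros
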