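import Cfsg.Agent.H547.SelfCent.Base
import Cfsg.Agent.H149.Sp.Small
import Cfsg.Agent.H690.Spor.ONRow
import Cfsg.Agent.BpSpor.ONanThree
import Cfsg.Agent.S1693

/-!
# The elements of order 19 of the O'Nan group are self-centralizing (helper153)

* `6 ∣ e` from `L₃(7):2` (`S1693`);
* `c ∈ {1, 343, 735, 2205}`, so `7 ∣ c` implies `49 ∣ c`, and then a central element of a Sylow 7-subgroup commutes with an
  element of order 19; its centralizer is solvable and contains an element of order 4 (`key`), contradiction.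
-/

set_option autoImplicit false

namespace Cfsg.Agent.H153.Zeros.ON19

open Subgroup Cfsg Cfsg.Agent.H393.Iso
open Cfsg.Spor (ON)
open Cfsg.Agent.SporadicB.ON45Word (on)
open Cfsg.Agent.KFacts.ON.Words (vv v)
open Cfsg.Agent.BpSpor.ONanThree

universe u

instance fact19 : Fact (Nat.Prime 19) := ⟨by norm_num⟩

theorem card_ON : Nat.card ON = 460815505920 := Cfsg.Agent.KFacts.ON.OneClass.card_ON

theorem finite_ON : Finite ON := Nat.finite_of_card_ne_zero (by rw [card_ON]; norm_num)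

theorem na19 : NA 19 ON := by
  have := finite_ON
  exact H149.Sp.na_on_all (G := ON) ⟨MulEquiv.refl _⟩ (by norm_num)

/-! ### general lemmas -/

theorem transfer {G : Type*} [Group G] [Finite G] {r : ℕ} (hr : r.Prime) (hsq : ¬ r * r ∣ Nat.card G) {x y : G}
    (hx : orderOf x = r) (hy : orderOf y = r) {k : ℕ} (h : ∃ g, g * x * g⁻¹ = x ^ k) : ∃ g, g * y * g⁻¹ = y ^ k := by
  obtain ⟨g, hg⟩ := h
  obtain ⟨c, hc, -⟩ := H547.SelfCent.exists_conj hr hsq hx hy
  obtain ⟨j, hj⟩ := mem_zpowers_iff.1 hc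
  have h1 := H547.SelfCent.conj_zpow (g := g) (x := x) (k := (k : ℤ)) (by rw [zpow_natCast]; exact hg) j
  rw [hj, zpow_natCast] at h1
  refine ⟨c⁻¹ * g * c, ?_⟩
  calc c⁻¹ * g * c * y * (c⁻¹ * g * c)⁻¹ = c⁻¹ * (g * (c * y * c⁻¹) * g⁻¹) * c := by group
    _ = c⁻¹ * (c * y * c⁻¹) ^ k * c := by rw [h1]
    _ = y ^ k := by rw [conj_pow]; group

/-- Frattini: a Sylow subgroup of a normal subgroup of index 2 is normalized by an involution -/
theorem even_norm {H : Type*} [Group H] [Finite H] {N : Subgroup H} [N.Normal] (hN : N.index = 2) {p : ℕ} [Fact p.Prime]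
    (P : Sylow p N) : ∃ t : H, orderOf t = 2 ∧ t ∈ normalizer ((P : Subgroup N).map N.subtype : Set H) := by
  set M := normalizer ((P : Subgroup N).map N.subtype : Set H) with hM
  have h2 : 2 ∣ Nat.card M := by
    by_contra hodd
    have hle : M ≤ N := by
      intro m hm
      have h3 : m ^ 2 ∈ N := by
        rw [← hN]
        exact N.pow_index_mem m
      have h4 : ¬ 2 ∣ orderOf m := fun h => hodd (h.trans (by
        have := orderOf_dvd_natCard (⟨m, hm⟩ : M)
        rwa [Subgroup.orderOf_mk] at this))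
      have h5 : Nat.Coprime (orderOf m) 2 := (Nat.coprime_two_right.2 (by
        rw [← Nat.not_even_iff_odd, even_iff_two_dvd]; exact h4))
      obtain ⟨k, hk⟩ := exists_pow_eq_self_of_coprime h5.symm
      rw [← hk]
      exact N.pow_mem h3 k
    have h6 := Sylow.normalizer_sup_eq_top P
    have h7 : N = ⊤ := by
      rw [eq_top_iff, ← h6]
      exact sup_le hle le_rfl
    rw [h7, index_top] at hN
    norm_num at hN
  have : Fact (Nat.Prime 2) := ⟨Nat.prime_two⟩
  obtain ⟨t, ht⟩ := exists_prime_orderOf_dvd_card' 2 h2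
  exact ⟨t, by rw [Subgroup.orderOf_coe, ht], t.2⟩

/-! ### `SL₃(7) → O'N` -/

theorem exists_hom : ∃ g : Matrix.SpecialLinearGroup (Fin 3) (ZMod 7) →* ON,
    ∀ x, g x = 1 → x ∈ center (Matrix.SpecialLinearGroup (Fin 3) (ZMod 7)) := by
  obtain ⟨N, -, -, ⟨e⟩⟩ := S1693.result
  let q : Matrix.SpecialLinearGroup (Fin 3) (ZMod 7) →* Matrix.ProjectiveSpecialLinearGroup (Fin 3) (ZMod 7) :=
    QuotientGroup.mk' _
  refine ⟨(Subgroup.subtype _).comp (N.subtype.comp (e.symm.toMonoidHom.comp q)), ?_⟩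
  intro x hx
  have h1 : e.symm (q x) = 1 := Subtype.ext (Subtype.ext hx)
  have h2 : q x = 1 := by
    rw [← map_one e.symm] at h1
    exact e.symm.injective h1
  exact (QuotientGroup.eq_one_iff _).1 h2

def mX : Matrix (Fin 3) (Fin 3) (ZMod 7) := !![0, 0, 1; 1, 0, 5; 0, 1, 0]
def mW : Matrix (Fin 3) (Fin 3) (ZMod 7) := !![0, 0, 2; 0, 3, 2; 1, 5, 4]
def mT : Matrix (Fin 3) (Fin 3) (ZMod 7) := !![6, 0, 0; 0, 1, 0; 0, 0, 6]

def X : Matrix.SpecialLinearGroup (Fin 3) (ZMod 7) := ⟨mX, by decide +kernel⟩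
def W : Matrix.SpecialLinearGroup (Fin 3) (ZMod 7) := ⟨mW, by decide +kernel⟩
def T : Matrix.SpecialLinearGroup (Fin 3) (ZMod 7) := ⟨mT, by decide +kernel⟩

theorem X_pow (n : ℕ) : (X ^ n).1 = mX ^ n := by
  induction n with
  | zero => rfl
  | succ n ih =>
    rw [pow_succ, pow_succ, ← ih]
    rfl

theorem X_19 : X ^ 19 = 1 := Subtype.ext ((X_pow 19).trans (by decide +kernel))

theorem WX : W * X = X ^ 7 * W := by
  apply Subtype.ext
  have h : (X ^ 7 * W).1 = mX ^ 7 * mW := by rw [← X_pow]; rfl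
  rw [h]
  exact (show mW * mX = mX ^ 7 * mW by decide +kernel)

theorem X_notMem : X ∉ center (Matrix.SpecialLinearGroup (Fin 3) (ZMod 7)) := by
  intro h
  have h1 := mem_center_iff.1 h T
  have h2 : mT * mX = mX * mT := congrArg Subtype.val h1
  exact absurd h2 (by decide +kernel)

theorem T_sq : T * T = 1 := Subtype.ext (show mT * mT = 1 by decide +kernel)

theorem TU : T * U 0 0 1 = U 0 0 1 * T := by
  apply Subtype.ext
  exact (show mT * um 0 0 1 = um 0 0 1 * mT by decide +kernel)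

theorem T_notMem : T ∉ center (Matrix.SpecialLinearGroup (Fin 3) (ZMod 7)) := by
  intro h
  have h1 := mem_center_iff.1 h X
  have h2 : mX * mT = mT * mX := congrArg Subtype.val h1
  exact absurd h2 (by decide +kernel)

theorem exists_three : ∃ x g : ON, orderOf x = 19 ∧ g * x * g⁻¹ = x ^ 7 := by
  obtain ⟨f, hf⟩ := exists_hom
  refine ⟨f X, f W, orderOf_eq_prime (by rw [← map_pow, X_19, map_one]) fun h => X_notMem (hf _ h), ?_⟩
  rw [← map_mul, WX, map_mul, map_pow, mul_inv_cancel_right]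

/-! ### an inverting involution -/

theorem sq_mod : ∀ k < 19, k * k % 19 = 1 → k = 1 ∨ k = 18 := by decide +kernel

/-- an involution normalizing `⟨x⟩` inverts `x` -/
theorem inverts {x t : ON} (hx : orderOf x = 19) (ht : orderOf t = 2) (h : t * x * t⁻¹ ∈ zpowers x) :
    t * x * t⁻¹ = x ^ 18 := by
  have := finite_ON
  obtain ⟨k, hk⟩ := (mem_powers_iff_mem_zpowers (x := x) (y := t * x * t⁻¹)).2 h
  have hk' : t * x * t⁻¹ = x ^ (k % 19) := by
    rw [← hk]
    have := pow_mod_orderOf x k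
    rw [hx] at this
    exact this.symm
  have htt : t * t = 1 := sq_of_two ht
  have h1 : x = x ^ (k % 19 * (k % 19)) := by
    have h2 : t * (t * x * t⁻¹) * t⁻¹ = x := by
      calc t * (t * x * t⁻¹) * t⁻¹ = (t * t) * x * (t * t)⁻¹ := by group
        _ = x := by rw [htt]; group
    conv_lhs => rw [← h2, hk', ← conj_pow, hk', ← pow_mul]
  have h3 : k % 19 * (k % 19) % 19 = 1 := by
    have h4 : x ^ (k % 19 * (k % 19)) = x ^ 1 := by rw [← h1, pow_one]
    have h5 := pow_eq_pow_iff_modEq.1 h4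
    rw [hx] at h5
    exact h5
  rcases sq_mod _ (Nat.mod_lt _ (by norm_num)) h3 with h4 | h4
  · exfalso
    rw [h4, pow_one] at hk'
    exact na19 x t hx ht (mul_inv_eq_iff_eq_mul.1 hk').symm
  · rw [hk', h4]

theorem exists_two_aux {H : Subgroup ON} {N : Subgroup H} [N.Normal] (hN2 : N.index = 2)
    (e : N ≃* Matrix.ProjectiveSpecialLinearGroup (Fin 3) (ZMod 7)) :
    ∃ x g : ON, orderOf x = 19 ∧ g * x * g⁻¹ = x ^ 18 := by
  have := finite_ON
  obtain ⟨P⟩ : Nonempty (Sylow 19 N) := inferInstance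
  -- an element of order 19 of `N`
  obtain ⟨y, hy⟩ : ∃ y : N, orderOf y = 19 := by
    refine ⟨e.symm (QuotientGroup.mk X), ?_⟩
    rw [MulEquiv.orderOf_eq]
    refine orderOf_eq_prime ?_ fun h => X_notMem ((QuotientGroup.eq_one_iff _).1 h)
    rw [← QuotientGroup.mk_pow, X_19]
    rfl
  have h19 : 19 ∣ Nat.card N := hy ▸ orderOf_dvd_natCard y
  have hsq : ¬ 19 ^ 2 ∣ Nat.card N := by
    intro h
    have h1 := h.trans ((card_subgroup_dvd_card N).trans (card_subgroup_dvd_card H))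
    rw [card_ON] at h1
    revert h1
    norm_num
  have hP : Nat.card P = 19 := by
    have h1 : (Nat.card N).factorization 19 = 1 :=
      H713.factorization_eq_one h19 (by rw [← pow_two]; exact hsq)
    rw [P.card_eq_multiplicity, h1, pow_one]
  obtain ⟨t, ht, htn⟩ := even_norm hN2 P
  obtain ⟨z0, hz0⟩ := exists_prime_orderOf_dvd_card' (G := P) 19 (by rw [hP])
  obtain ⟨z, hzP⟩ := z0
  have hz : orderOf z = 19 := (Subgroup.orderOf_coe (⟨z, hzP⟩ : (P : Subgroup N))).trans hz0
  have hmap : (P : Subgroup N).map N.subtype = zpowers (z : H) := by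
    have h1 : (P : Subgroup N) = zpowers z := by
      symm
      apply Subgroup.eq_of_le_of_card_ge (zpowers_le.2 hzP)
      rw [Nat.card_zpowers, hz]
      exact hP.le
    rw [h1, MonoidHom.map_zpowers]
    rfl
  rw [hmap] at htn
  have hz2 : orderOf ((z : H) : ON) = 19 := by rw [Subgroup.orderOf_coe, Subgroup.orderOf_coe, hz]
  refine ⟨((z : H) : ON), (t : ON), hz2, inverts hz2 (by rw [Subgroup.orderOf_coe, ht]) ?_⟩
  have h1 := (mem_normalizer_iff.1 htn (z : H)).1 (mem_zpowers _)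
  obtain ⟨k, hk⟩ := mem_zpowers_iff.1 h1
  rw [mem_zpowers_iff]
  exact ⟨k, congrArg Subtype.val hk⟩

theorem exists_two : ∃ x g : ON, orderOf x = 19 ∧ g * x * g⁻¹ = x ^ 18 := by
  obtain ⟨N, hNn, hN2, ⟨e⟩⟩ := S1693.result
  exact exists_two_aux hN2 e

/-! ### the 7-part -/

theorem fourth19 : ∀ c : ZMod 19, c ^ 4 = 1 → c ^ 2 = 1 := by decide

/-- A solvable group with an element `v` of order dividing 4: some element of order 19 commutes with `v²`. -/
theorem key19 {G : Type*} [Group G] [Finite G] (hs : Group.IsSolvable G) (h19' : 19 ∣ Nat.card G)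
    (hsq : ¬ 19 * 19 ∣ Nat.card G) (h10 : ¬ 2 ^ 10 ∣ Nat.card G) {v : G} (hv : v ^ 4 = 1) :
    ∃ y : G, orderOf y = 19 ∧ y * v ^ 2 = v ^ 2 * y := by
  have f19' : Fact (Nat.Prime 19) := ⟨by norm_num⟩
  obtain ⟨K, hK, hKi, hvK⟩ := Cfsg.Agent.OddOrderLocal.HallPi.exists_hall_ge_top (G := G) ({2, 19} : Set ℕ)
    (X := zpowers v) (by
      intro q hq hd
      left
      rw [Nat.card_zpowers] at hd
      have h1 : q ∣ 2 ^ 2 := hd.trans (orderOf_dvd_of_pow_eq_one hv)
      exact (Nat.prime_dvd_prime_iff_eq hq Nat.prime_two).1 (hq.dvd_of_dvd_pow h1))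
  have hvK' : v ∈ K := hvK (mem_zpowers v)
  have hKd : Nat.card K ∣ Nat.card G := K.card_subgroup_dvd_card
  have hK19' : 19 ∣ Nat.card K := by
    rw [← K.card_mul_index] at h19'
    exact (f19'.out.dvd_mul.1 h19').resolve_right (hKi 19 f19'.out (by right; rfl))
  let P : Sylow 19 K := default
  have hP : Nat.card P = 19 := by
    rw [P.card_eq_multiplicity]
    have h1 : (Nat.card K).factorization 19 = 1 := by
      refine H713.factorization_eq_one hK19' fun h => hsq (h.trans hKd)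
    rw [h1, pow_one]
  -- the index of `P` is a power of 2
  have hidx : ∃ a : ℕ, (P : Subgroup K).index = 2 ^ a := by
    have h0 : (P : Subgroup K).index ≠ 0 := Subgroup.index_ne_zero_of_finite
    refine ⟨_, Nat.eq_prime_pow_of_unique_prime_dvd h0 fun {q} hq hd => ?_⟩
    have h1 : q ∣ Nat.card K := hd.trans ((P : Subgroup K).index_dvd_card)
    rcases hK q hq h1 with h2 | h2
    · exact h2
    · exfalso
      have h3 : q = 19 := h2
      rw [h3] at hd
      exact P.not_dvd_index hd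
  obtain ⟨a, ha⟩ := hidx
  have ha9 : a ≤ 9 := by
    by_contra hcon
    apply h10
    refine (pow_dvd_pow 2 (by omega : 10 ≤ a)).trans ?_
    rw [← ha]
    exact ((P : Subgroup K).index_dvd_card).trans hKd
  have hn : Nat.card (Sylow 19 K) = 1 := by
    have h1 : Nat.card (Sylow 19 K) ∣ 2 ^ a := ha ▸ Sylow.card_dvd_index P
    have h2 : Nat.card (Sylow 19 K) ≡ 1 [MOD 19] := card_sylow_modEq_one 19 K
    obtain ⟨b, hb, hb2⟩ := (Nat.dvd_prime_pow Nat.prime_two).1 h1
    rw [hb2] at h2 ⊢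
    have hb9 : b < 10 := by omega
    interval_cases b <;> first | rfl | (exfalso; revert h2; decide)
  have hsub : Subsingleton (Sylow 19 K) := (Nat.card_eq_one_iff_unique.1 hn).1
  have hPn : (P : Subgroup K).Normal := Sylow.normal_of_subsingleton P
  obtain ⟨y, hy⟩ := exists_prime_orderOf_dvd_card' (G := P) 19 (by rw [hP])
  have hgen : ∀ z : K, z ∈ (P : Subgroup K) → ∃ i : ℕ, (y : K) ^ i = z := by
    intro z hz
    have h1 : zpowers y = ⊤ := by
      apply Subgroup.eq_top_of_card_eq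
      rw [Nat.card_zpowers, hy, hP]
    have h2 : (⟨z, hz⟩ : P) ∈ zpowers y := by rw [h1]; exact mem_top _
    obtain ⟨i, hi⟩ := (mem_powers_iff_mem_zpowers (x := y) (y := ⟨z, hz⟩)).2 h2
    exact ⟨i, congrArg Subtype.val hi⟩
  set w : K := ⟨v, hvK'⟩ with hw
  have hw4 : w ^ 4 = 1 := Subtype.ext hv
  have hyo : orderOf (y : K) = 19 := by rw [Subgroup.orderOf_coe]; exact hy
  obtain ⟨i, hi⟩ := hgen (w * y * w⁻¹) (hPn.conj_mem _ y.2 w)
  have hpow : ∀ k : ℕ, w ^ k * (y : K) * (w ^ k)⁻¹ = (y : K) ^ (i ^ k) := by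
    intro k
    induction k with
    | zero => simp
    | succ k ih =>
      have h1 : w ^ (k + 1) * (y : K) * (w ^ (k + 1))⁻¹ = w * (w ^ k * (y : K) * (w ^ k)⁻¹) * w⁻¹ := by
        rw [pow_succ']
        group
      rw [h1, ih, ← conj_pow, ← hi, ← pow_mul, pow_succ']
  have h4 := hpow 4
  rw [hw4] at h4
  simp only [one_mul, inv_one, mul_one] at h4
  have h5 : (i ^ 4 : ℕ) ≡ 1 [MOD 19] := by
    rw [← hyo]
    refine (pow_eq_pow_iff_modEq (x := (y : K))).1 ?_
    rw [pow_one]
    exact h4.symm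
  have h6 : (i ^ 2 : ℕ) ≡ 1 [MOD 19] := by
    have h8 : ((i ^ 4 : ℕ) : ZMod 19) = ((1 : ℕ) : ZMod 19) := (ZMod.natCast_eq_natCast_iff _ _ _).2 h5
    push_cast at h8
    have h9 := fourth19 _ h8
    refine (ZMod.natCast_eq_natCast_iff _ _ _).1 ?_
    push_cast
    exact h9
  have h7 := hpow 2
  have h8 : (y : K) ^ (i ^ 2) = (y : K) ^ 1 := by
    rw [pow_eq_pow_iff_modEq, hyo]
    exact h6
  rw [h8, pow_one] at h7
  refine ⟨((y : K) : G), by rw [Subgroup.orderOf_coe]; exact hyo, ?_⟩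
  have h9 : w ^ 2 * (y : K) = (y : K) * w ^ 2 := mul_inv_eq_iff_eq_mul.1 h7
  have h10' := congrArg (fun z : K => (z : G)) h9
  exact h10'.symm


/-- no element of order 19 commutes with an element of order 7 commuting with an involution -/
theorem not_dvd {y t : ON} (hy : orderOf y = 7) (ht : orderOf t = 2) (hyt : y * t = t * y) :
    ¬ 19 ∣ Nat.card (centralizer ({y} : Set ON)) := by
  have := finite_ON
  intro h19
  obtain ⟨h1, h2⟩ := H713.orderOf_two ht
  obtain ⟨g, hg⟩ := isConj_iff.1 (Cfsg.Agent.KFacts.ON.OneClass.one_class h1 h2)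
  set y' := g * y * g⁻¹ with hy'
  have hyo : orderOf y' = 7 := by
    rw [hy', ← hy]
    exact (MulEquiv.orderOf_eq (MulAut.conj g) y)
  rw [← H690.Spor.ONRow.centralizer_conj g y, ← hy'] at h19
  have h3 : y' * on .f = on .f * y' := by
    rw [← hg, hy']
    have e1 : g * y * g⁻¹ * (g * t * g⁻¹) = g * (y * t) * g⁻¹ := by group
    have e2 : g * t * g⁻¹ * (g * y * g⁻¹) = g * (t * y) * g⁻¹ := by group
    rw [e1, e2, hyt]
  have h4 := H690.Spor.ONRow.comm_v (by rw [← hyo]; exact pow_orderOf_eq_one y') h3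
  have hs := Cfsg.Agent.CpAutON.Seven.solvable (fun K _ _ hK => Cfsg.Agent.S0205.result hK) hyo
  have hd : Nat.card (centralizer ({y'} : Set ON)) ∣ 460815505920 := card_ON ▸ card_subgroup_dvd_card _
  have hvm : v ∈ centralizer ({y'} : Set ON) := mem_centralizer_singleton_iff.2 h4.symm
  have hv4 : (⟨v, hvm⟩ : centralizer ({y'} : Set ON)) ^ 4 = 1 := Subtype.ext Cfsg.Agent.CpAutON.Codes.v_four
  obtain ⟨z, hz, hzv⟩ := key19 hs h19 (fun h => absurd (h.trans hd) (by norm_num))
    (fun h => absurd (h.trans hd) (by norm_num)) hv4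
  have h5 : (z : ON) * on .f = on .f * z := by
    have h6 := congrArg (fun c : centralizer ({y'} : Set ON) => (c : ON)) hzv
    simp only [Subgroup.coe_mul, SubmonoidClass.coe_pow] at h6
    rw [pow_two, vv] at h6
    exact h6
  have h6 : orderOf (⟨(z : ON), mem_centralizer_singleton_iff.2 h5⟩ : centralizer ({on .f} : Set ON)) = 19 := by
    rw [Subgroup.orderOf_mk, Subgroup.orderOf_coe]
    exact hz
  have h7 : 19 ∣ 161280 := by
    rw [← Cfsg.Agent.KFacts.ON.Cent.card_cent, ← h6]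
    exact orderOf_dvd_natCard _
  exact absurd h7 (by norm_num)

theorem comm_mem {P : Type*} [Group P] [Finite P] (hP : Nat.card P = 343) (R : Subgroup P) (hR : 49 ∣ Nat.card R)
    (a b : P) : a * b * (b * a)⁻¹ ∈ R := by
  have h1 := R.card_mul_index
  obtain ⟨k, hk⟩ := hR
  rw [hP, hk] at h1
  have h2 : k * R.index = 7 := by
    have h3 : 49 * (k * R.index) = 49 * 7 := by rw [← mul_assoc, h1]
    omega
  have h3 : R.index ∣ 7 := ⟨k, by rw [mul_comm, h2]⟩
  rcases (Nat.dvd_prime (by norm_num)).1 h3 with h4 | h4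
  · rw [Subgroup.index_eq_one.1 h4]
    trivial
  · have hmf : (343 : ℕ).minFac = 7 := by
      have h5 : (7 ^ 3 : ℕ).minFac = 7 := Nat.Prime.pow_minFac (by norm_num) (by norm_num)
      exact h5
    have hn : R.Normal := normal_of_index_eq_minFac_card (by rw [hP, hmf, h4])
    have h7 : Fact (Nat.Prime 7) := ⟨by norm_num⟩
    have hc : IsCyclic (P ⧸ R) := isCyclic_of_prime_card (p := 7) h4
    have h5 : (QuotientGroup.mk (a * b * (b * a)⁻¹) : P ⧸ R) = 1 := by
      have hcomm : ∀ x y : P ⧸ R, x * y = y * x := fun x y => by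
        obtain ⟨g, hg⟩ := hc.exists_generator
        obtain ⟨i, rfl⟩ := hg x
        obtain ⟨j, rfl⟩ := hg y
        show g ^ i * g ^ j = g ^ j * g ^ i
        rw [← zpow_add, ← zpow_add, add_comm]
      rw [QuotientGroup.mk_mul, QuotientGroup.mk_inv, QuotientGroup.mk_mul, QuotientGroup.mk_mul, hcomm,
        hcomm (QuotientGroup.mk a), inv_mul_cancel]
    exact (QuotientGroup.eq_one_iff _).1 h5

theorem um_ne : um 0 0 1 ≠ 1 := by decide +kernel

theorem not_49 {x : ON} (hx : orderOf x = 19) : ¬ 49 ∣ Nat.card (centralizer ({x} : Set ON)) := by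
  intro h49
  have := finite_ON
  have f7 : Fact (Nat.Prime 7) := ⟨by norm_num⟩
  obtain ⟨f, hf⟩ := exists_hom
  have hinj : ∀ a, f a = 1 → a ^ 7 = 1 → a = 1 := by
    intro a ha h7
    obtain ⟨r, hr, hra⟩ := Matrix.SpecialLinearGroup.mem_center_iff.1 (hf a ha)
    have h1 : a ^ 6 = 1 := by
      apply Subtype.ext
      have h2 : ∀ n : ℕ, (a ^ n).1 = (Matrix.scalar (Fin 3) r) ^ n := by
        intro n
        induction n with
        | zero => rfl
        | succ n ih =>
          rw [pow_succ, pow_succ, ← ih, hra]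
          rfl
      rw [h2, ← map_pow]
      have h3 : r ^ 6 = 1 := by
        rw [Fintype.card_fin] at hr
        have h4 : r ^ 6 = (r ^ 3) ^ 2 := by rw [← pow_mul]
        rw [h4, hr, one_pow]
      rw [h3, map_one]
      rfl
    have h2 : a ^ 7 = a ^ 6 * a := pow_succ a 6
    rw [h7, h1, one_mul] at h2
    exact h2.symm
  -- the central element and the involution
  set z := f (U 0 0 1) with hz
  have hz7 : orderOf z = 7 := by
    refine orderOf_eq_prime (by rw [hz, ← map_pow, U_seven, map_one]) fun h => ?_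
    have h1 := hinj _ h (U_seven _ _ _)
    have h2 : um 0 0 1 = 1 := congrArg Subtype.val h1
    exact um_ne h2
  have ht2 : orderOf (f T) = 2 := by
    have : Fact (Nat.Prime 2) := ⟨Nat.prime_two⟩
    exact orderOf_eq_prime (by rw [pow_two, ← map_mul, T_sq, map_one]) fun h => T_notMem (hf _ h)
  have hzt : z * f T = f T * z := by rw [hz, ← map_mul, ← map_mul, TU]
  have hzc : z = f (U 1 0 0) * f (U 0 1 0) * (f (U 0 1 0) * f (U 1 0 0))⁻¹ := by
    rw [hz, ← map_mul, ← map_mul, ← map_inv, ← map_mul]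
    congr 1
    symm
    rw [mul_inv_eq_iff_eq_mul, U_mul, U_mul, U_mul]
    congr 1
  -- a Sylow 7-subgroup containing the image of the unitriangular group
  obtain ⟨P, hP⟩ := (isPGroup_uni.map f).exists_le_sylow
  have hPc : Nat.card P = 343 := by
    rw [P.card_eq_multiplicity, card_ON]
    have h1 : (460815505920 : ℕ).factorization 7 = 3 := by
      have h2 : (460815505920 : ℕ) = 7 ^ 3 * 1343485440 := by norm_num
      rw [h2, Nat.factorization_mul (by norm_num) (by norm_num), Nat.Prime.factorization_pow (by norm_num)]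
      have h3 : (1343485440 : ℕ).factorization 7 = 0 := Nat.factorization_eq_zero_of_not_dvd (by norm_num)
      simp [h3]
    rw [h1]
    norm_num
  -- a Sylow 7-subgroup of the centralizer
  obtain ⟨Q⟩ : Nonempty (Sylow 7 (centralizer ({x} : Set ON))) := inferInstance
  have hQ : 49 ∣ Nat.card (Q : Subgroup (centralizer ({x} : Set ON))) := by
    have h1 : 7 ^ 2 ∣ Nat.card (centralizer ({x} : Set ON)) := h49
    exact Q.pow_dvd_card_of_pow_dvd_card h1
  set R0 := (Q : Subgroup (centralizer ({x} : Set ON))).map (centralizer ({x} : Set ON)).subtype with hR0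
  have hR0c : Nat.card R0 = Nat.card (Q : Subgroup (centralizer ({x} : Set ON))) :=
    Nat.card_congr (Subgroup.equivMapOfInjective _ _ (Subgroup.subtype_injective _)).symm.toEquiv
  have hR0p : IsPGroup 7 R0 := Q.isPGroup'.map _
  obtain ⟨P0, hP0⟩ := hR0p.exists_le_sylow
  obtain ⟨c, hc⟩ := MulAction.exists_smul_eq ON P0 P
  have hcP : ∀ a ∈ R0, c * a * c⁻¹ ∈ (P : Subgroup ON) := by
    intro a ha
    rw [← hc]
    exact ⟨a, hP0 ha, rfl⟩
  set R := R0.map (MulAut.conj c).toMonoidHom with hR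
  have hRP : R ≤ (P : Subgroup ON) := by
    rintro _ ⟨a, ha, rfl⟩
    exact hcP a ha
  have hRc : Nat.card R = Nat.card R0 :=
    Nat.card_congr (Subgroup.equivMapOfInjective _ _ (MulAut.conj c).injective).symm.toEquiv
  have hzR : z ∈ R := by
    have m1 : f (U 1 0 0) ∈ (P : Subgroup ON) := hP ⟨_, ⟨1, 0, 0, rfl⟩, rfl⟩
    have m2 : f (U 0 1 0) ∈ (P : Subgroup ON) := hP ⟨_, ⟨0, 1, 0, rfl⟩, rfl⟩
    have h1 := comm_mem (P := (P : Subgroup ON)) hPc (R.subgroupOf P) (by
      rw [Nat.card_congr (Subgroup.subgroupOfEquivOfLe hRP).toEquiv, hRc, hR0c]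
      exact hQ) ⟨_, m1⟩ ⟨_, m2⟩
    rw [mem_subgroupOf] at h1
    rw [hzc]
    exact h1
  obtain ⟨a, ha, hac⟩ := hzR
  obtain ⟨b, -, hb⟩ := ha
  have hax : a * x = x * a := by
    rw [← hb]
    exact mem_centralizer_singleton_iff.1 b.2
  refine not_dvd hz7 ht2 hzt ?_
  have hac' : c * a * c⁻¹ = z := hac
  have h1 : (c * x * c⁻¹) ∈ centralizer ({z} : Set ON) := by
    rw [mem_centralizer_singleton_iff, ← hac']
    calc c * x * c⁻¹ * (c * a * c⁻¹) = c * (x * a) * c⁻¹ := by group
      _ = c * (a * x) * c⁻¹ := by rw [hax]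
      _ = c * a * c⁻¹ * (c * x * c⁻¹) := by group
  have h2 : orderOf (⟨_, h1⟩ : centralizer ({z} : Set ON)) = 19 := by
    rw [Subgroup.orderOf_mk, ← hx]
    exact MulEquiv.orderOf_eq (MulAut.conj c) x
  rw [← h2]
  exact orderOf_dvd_natCard _

end Cfsg.Agent.H153.Zeros.ON19
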